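import Cfsg.Agent.Lib.FusionAlperin.AltTorus

/-!
# Simplicity of fusion systems of central quotients

The hypotheses of the simplicity criterion, stated in a finite group `G` for a `p`-subgroup `U`, give
simplicity of the fusion system of `G ⧸ Z` when `Z` is a central subgroup of order prime to `p`.
-/

set_option autoImplicit false

namespace Cfsg.Agent.Lib.FusionClassical.Quotient

open Cfsg Cfsg.Agent.Lib.FS Cfsg.Agent.Lib.FusionAlperin.AltTorus

variable {G : Type*} [Group G] [Finite G] {p : ℕ} [Fact p.Prime] {Z U : Subgroup G}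

/-- A central element of `p`-power order in a central `p'`-subgroup is trivial. -/
theorem eq_one_of_pow (hp : ¬ p ∣ Nat.card Z) {z : G} (hz : z ∈ Z) {k : ℕ} (hk : z ^ p ^ k = 1) :
    z = 1 := by
  have h1 : orderOf z ∣ p ^ k := orderOf_dvd_of_pow_eq_one hk
  have h2 : orderOf z ∣ Nat.card Z := Subgroup.orderOf_dvd_natCard _ hz
  have h3 : orderOf z ∣ 1 := by
    rw [← ((Fact.out : p.Prime).coprime_iff_not_dvd.2 hp).pow_left k]
    exact Nat.dvd_gcd h1 h2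
  exact orderOf_eq_one_iff.1 (Nat.dvd_one.1 h3)

theorem exists_pow_of_mem (hU : IsPGroup p U) {u : G} (hu : u ∈ U) : ∃ k : ℕ, u ^ p ^ k = 1 := by
  obtain ⟨k, hk⟩ := hU ⟨u, hu⟩
  exact ⟨k, congrArg Subtype.val hk⟩

/-- An element normalising `U` modulo `Z` normalises `U`. -/
theorem conj_mem_of_mod (hZ : Z ≤ Subgroup.center G) (hp : ¬ p ∣ Nat.card Z) (hU : IsPGroup p U)
    {g u u' : G} (hu : u ∈ U) (hu' : u' ∈ U) (h : u'⁻¹ * (g * u * g⁻¹) ∈ Z) :
    g * u * g⁻¹ = u' := by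
  obtain ⟨a, ha⟩ := exists_pow_of_mem hU hu
  obtain ⟨b, hb⟩ := exists_pow_of_mem hU hu'
  set z := u'⁻¹ * (g * u * g⁻¹) with hz
  have hc : Commute u'⁻¹ (g * u * g⁻¹) := by
    have e : g * u * g⁻¹ = u' * z := by rw [hz]; group
    rw [e]
    exact (Commute.inv_left (Commute.refl u')).mul_right (Subgroup.mem_center_iff.1 (hZ h) u'⁻¹)
  have hz1 : z ^ p ^ (a + b) = 1 := by
    rw [hz, hc.mul_pow, inv_pow, pow_add, mul_comm, pow_mul, hb, one_pow, inv_one, one_mul,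
      mul_comm, pow_mul, conj_pow, ha, mul_one, mul_inv_cancel, one_pow]
  have := eq_one_of_pow hp h hz1
  rwa [hz, inv_mul_eq_one, eq_comm] at this

variable [Z.Normal]

theorem mk_inj (hp : ¬ p ∣ Nat.card Z) (hU : IsPGroup p U) {u : G} (hu : u ∈ U)
    (h : (QuotientGroup.mk u : G ⧸ Z) = 1) : u = 1 := by
  obtain ⟨a, ha⟩ := exists_pow_of_mem hU hu
  exact eq_one_of_pow hp ((QuotientGroup.eq_one_iff u).1 h) ha

/-- The criterion for a central quotient. -/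
theorem isSimple_quotient (hZ : Z ≤ Subgroup.center G) (hp : ¬ p ∣ Nat.card Z) (hU : IsPGroup p U)
    (hU1 : U ≠ ⊥)
    (hmax : ∀ g : G, (∀ u ∈ U, g * u * g⁻¹ ∈ U) → (∃ k : ℕ, g ^ p ^ k = 1) → g ∈ U)
    (hcov : ∀ g : G, (∀ u ∈ U, g * u * g⁻¹ ∈ U) → g ∈ Subgroup.closure
      {h : G | (∀ u ∈ U, h * u * h⁻¹ ∈ U) ∧ ∃ R ≤ U,
        (∀ s : G, (∀ r ∈ R, Commute s r) → ∃ z ∈ Z, ∃ r ∈ R, s = z * r) ∧
        h ∈ Subgroup.closure {x : G | (∀ r ∈ R, x * r * x⁻¹ ∈ R) ∧ ∃ k : ℕ, x ^ p ^ k = 1}})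
    (hsc : ∀ T : Subgroup G, T ≤ U → T ≠ ⊥ →
      (∀ g : G, ∀ t ∈ T, g * t * g⁻¹ ∈ U → g * t * g⁻¹ ∈ T) → U ≤ T)
    (S : Sylow p (G ⧸ Z)) : (groupFusionSystem (S : Subgroup (G ⧸ Z))).IsSimple p := by
  set π := QuotientGroup.mk' Z with hπ
  set Ub := U.map π with hUb
  have hUbp : IsPGroup p Ub := hU.map π
  have hlift : ∀ g : G, (∀ y ∈ Ub, π g * y * (π g)⁻¹ ∈ Ub) → ∀ u ∈ U, g * u * g⁻¹ ∈ U := by
    intro g hg u hu
    obtain ⟨u', hu', he⟩ := hg _ ⟨u, hu, rfl⟩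
    rw [← map_inv, ← map_mul, ← map_mul] at he
    rw [conj_mem_of_mod hZ hp hU hu hu' (QuotientGroup.eq.1 he)]
    exact hu'
  obtain ⟨P, hP⟩ := hUbp.exists_le_sylow
  have hPU : (P : Subgroup (G ⧸ Z)) = Ub := by
    refine le_antisymm ?_ hP
    by_contra hne
    have hlt : Ub.subgroupOf (P : Subgroup (G ⧸ Z)) < ⊤ :=
      lt_top_iff_ne_top.2 fun h => hne (Subgroup.subgroupOf_eq_top.1 h)
    have : Group.IsNilpotent (P : Subgroup (G ⧸ Z)) := P.isPGroup'.isNilpotent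
    obtain ⟨y, hy, hyU⟩ := SetLike.exists_of_lt (Group.normalizerCondition_of_isNilpotent _ hlt)
    obtain ⟨g, hg⟩ := QuotientGroup.mk'_surjective Z (y : G ⧸ Z)
    -- a lift of `p`-power order
    obtain ⟨a, ha⟩ := exists_pow_of_mem (U := (P : Subgroup (G ⧸ Z))) P.isPGroup' y.2
    have hgz : g ^ p ^ a ∈ Z := by
      rw [← QuotientGroup.eq_one_iff, QuotientGroup.mk_pow]
      rw [show (QuotientGroup.mk g : G ⧸ Z) = y from hg, ha]
    have hcop : Nat.Coprime (p ^ a) (Nat.card Z) :=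
      ((Fact.out : p.Prime).coprime_iff_not_dvd.2 hp).pow_left a
    obtain ⟨w, hw⟩ := (powCoprime hcop.symm).surjective ⟨_, hgz⟩
    have hw' : (w : G) ^ p ^ a = g ^ p ^ a := congrArg Subtype.val hw
    set g' := g * (w : G)⁻¹ with hg'
    have hcomm : Commute g (w : G)⁻¹ := Subgroup.mem_center_iff.1 (hZ (inv_mem w.2)) g
    have hg'1 : g' ^ p ^ a = 1 := by rw [hg', hcomm.mul_pow, inv_pow, hw', mul_inv_cancel]
    have hg'e : π g' = y := by
      rw [hg', map_mul, show π (w : G)⁻¹ = 1 from (QuotientGroup.eq_one_iff _).2 (inv_mem w.2),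
        mul_one]
      exact hg
    have hnorm : ∀ z ∈ Ub, π g' * z * (π g')⁻¹ ∈ Ub := by
      intro z hz
      rw [hg'e]
      exact (Subgroup.mem_normalizer_iff.1 hy ⟨z, hP hz⟩).1 hz
    refine hyU ?_
    show (y : G ⧸ Z) ∈ Ub
    rw [← hg'e]
    exact ⟨g', hmax g' (hlift g' hnorm) ⟨a, hg'1⟩, rfl⟩
  have hne : ∀ S : Sylow p (G ⧸ Z), (S : Subgroup (G ⧸ Z)) ≠ ⊥ := by
    intro S hS
    have h1 : Nat.card (P : Subgroup (G ⧸ Z)) = 1 := by
      rw [Nat.card_congr (P.equiv S).toEquiv, hS, Subgroup.card_bot]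
    rw [hPU, Subgroup.card_eq_one, hUb, Subgroup.map_eq_bot_iff] at h1
    exact hU1 ((Subgroup.eq_bot_iff_forall _).2 fun u hu => mk_inj hp hU hu (h1 hu))
  refine isSimple_of_covered P hne ?_ ?_ S
  · intro S T hT
    obtain ⟨c, rfl⟩ := MulAction.exists_smul_eq (G ⧸ Z) P S
    obtain ⟨hTS, hcl0⟩ := hT
    by_cases hb : T = ⊥
    · exact Or.inl hb
    right
    have hmem : ∀ x, x ∈ ((c • P : Sylow p (G ⧸ Z)) : Subgroup (G ⧸ Z)) ↔ c⁻¹ * x * c ∈ Ub := fun x => by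
      rw [Sylow.coe_subgroup_smul, hPU, Subgroup.mem_pointwise_smul_iff_inv_smul_mem,
        MulAut.smul_def, MulAut.conj_inv_apply]
    have hcl : ∀ g, ∀ x ∈ T, g * x * g⁻¹ ∈ ((c • P : Sylow p (G ⧸ Z)) : Subgroup (G ⧸ Z)) →
        g * x * g⁻¹ ∈ T := by
      intro g x hx hgx
      refine hcl0 (Subgroup.zpowers x) (Subgroup.zpowers_le.2 hx) (conjHom _ g)
        (conjHom_mem_group ((Subgroup.zpowers_le.2 hx).trans hTS) ?_) ⟨x, Subgroup.mem_zpowers x⟩
      intro y hy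
      obtain ⟨k, rfl⟩ := Subgroup.mem_zpowers_iff.1 hy
      rw [← conj_zpow]
      exact Subgroup.zpow_mem _ hgx k
    obtain ⟨d, hd⟩ := QuotientGroup.mk'_surjective Z c
    let T₁ : Subgroup G := U ⊓ T.comap ((MulAut.conj c).toMonoidHom.comp π)
    have hT₁ : U ≤ T₁ := by
      refine hsc T₁ inf_le_left ?_ ?_
      · obtain ⟨⟨t, ht⟩, ht1⟩ := Subgroup.ne_bot_iff_exists_ne_one.1 hb
        obtain ⟨u, hu, hue⟩ := (hmem t).1 (hTS ht)
        intro h
        have hu1 : u ∈ T₁ := ⟨hu, by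
          show c * π u * c⁻¹ ∈ T
          rw [hue, show c * (c⁻¹ * t * c) * c⁻¹ = t by group]; exact ht⟩
        rw [h, Subgroup.mem_bot] at hu1
        rw [hu1, map_one] at hue
        apply ht1
        apply Subtype.ext
        show t = 1
        calc t = c * (c⁻¹ * t * c) * c⁻¹ := by group
          _ = 1 := by rw [← hue]; group
      · intro g t ht hg
        refine ⟨hg, ?_⟩
        show c * π (g * t * g⁻¹) * c⁻¹ ∈ T
        have ht' : c * π t * c⁻¹ ∈ T := ht.2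
        have h' := hcl (c * π g * c⁻¹) _ ht' ((hmem _).2 ⟨g * t * g⁻¹, hg, by
          simp only [map_mul, map_inv]; group⟩)
        convert h' using 1
        simp only [map_mul, map_inv]
        group
    refine le_antisymm hTS fun x hx => ?_
    obtain ⟨u, hu, hue⟩ := (hmem x).1 hx
    have h2 : c * π u * c⁻¹ ∈ T := (hT₁ hu).2
    rwa [hue, show c * (c⁻¹ * x * c) * c⁻¹ = x by group] at h2
  · rw [hPU]
    intro y hy
    obtain ⟨g, rfl⟩ := QuotientGroup.mk'_surjective Z y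
    have h := Subgroup.mem_map_of_mem π (hcov g (hlift g fun z hz => (Subgroup.mem_normalizer_iff.1 hy z).1 hz))
    rw [MonoidHom.map_closure] at h
    refine Subgroup.closure_mono ?_ h
    rintro _ ⟨x, ⟨hxU, R, hRU, hcen, hK⟩, rfl⟩
    refine ⟨mem_normalizer_of_conj_mem ?_, R.map π, Subgroup.map_mono hRU, ?_, ?_⟩
    · rintro _ ⟨u, hu, rfl⟩
      exact ⟨x * u * x⁻¹, hxU u hu, by simp only [map_mul, map_inv]⟩
    · intro s hs
      obtain ⟨s, rfl⟩ := QuotientGroup.mk'_surjective Z s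
      obtain ⟨z, hz, r, hr, rfl⟩ := hcen s fun r hr => by
        have h1 := hs (π r) ⟨r, hr, rfl⟩
        obtain ⟨k, hk⟩ := exists_pow_of_mem hU (hRU hr)
        have h2 : r⁻¹ * (s * r * s⁻¹) ∈ Z := by
          rw [← QuotientGroup.eq_one_iff]
          show π (r⁻¹ * (s * r * s⁻¹)) = 1
          simp only [map_mul, map_inv]
          rw [show π s * π r = π r * π s from h1.symm]
          group
        exact mul_inv_eq_iff_eq_mul.1 (conj_mem_of_mod hZ hp hU (hRU hr) (hRU hr) h2)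
      refine ⟨r, hr, ?_⟩
      rw [map_mul, show π z = 1 from (QuotientGroup.eq_one_iff z).2 hz, one_mul]
    · have h2 := Subgroup.mem_map_of_mem π hK
      rw [MonoidHom.map_closure] at h2
      refine Subgroup.closure_mono ?_ h2
      rintro _ ⟨w, ⟨hwR, k, hk⟩, rfl⟩
      refine ⟨mem_normalizer_of_conj_mem ?_, ?_⟩
      · rintro _ ⟨r, hr, rfl⟩
        exact ⟨w * r * w⁻¹, hwR r hr, by simp only [map_mul, map_inv]⟩
      · obtain ⟨l, -, hl⟩ := (Nat.dvd_prime_pow Fact.out).1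
          (show orderOf (π w) ∣ p ^ k from orderOf_dvd_of_pow_eq_one (by rw [← map_pow, hk, map_one]))
        exact ⟨l, hl⟩

end Cfsg.Agent.Lib.FusionClassical.Quotient
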