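import Cfsg.Agent.Lib.FusionClassical.Quotient
import Cfsg.Agent.Lib.AutPSp.Root
import Cfsg.Agent.Lib.Linear.Transvection

/-!
# Symplectic groups: the unitriangular subgroup and two parabolic radicals

`U` is the unitriangular Sylow subgroup, `A` the radical fixing the Lagrangian subspace spanned by
the first `m` basis vectors, `Q o` the radical of the stabiliser of the point spanned by the basis
vector `inl o`.
-/

set_option autoImplicit false

namespace Cfsg.Agent.Lib.FusionClassical.Symplectic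

open Matrix Cfsg.Agent.Lib.AutPSp Cfsg.Agent.Lib.Symplectic

variable {m : ℕ} {F : Type*} [Field F]

local notation "ℓ" => (Fin m ⊕ Fin m)
local notation "Vm" => (Fin m ⊕ Fin m → F)
local notation "Mm" => Matrix (Fin m ⊕ Fin m) (Fin m ⊕ Fin m) F
local notation "Mq" => Matrix (Fin m) (Fin m) F
local notation "Spm" => Matrix.symplecticGroup (Fin m) F
local notation "sB" => stdForm m F

/-! ### elements -/

/-- The Levi element of an invertible matrix. -/
def lev : GL (Fin m) F →* Spm where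
  toFun g := ⟨Matrix.fromBlocks (g : Mq) 0 0 ((↑g⁻¹ : Mq)ᵀ), SymplecticGroup.fromBlocks_mem_iff.2
    ⟨by simp, by simp, by
      rw [← Matrix.transpose_mul]
      simp⟩⟩
  map_one' := Subtype.ext (by simp)
  map_mul' g h := Subtype.ext (by
    simp [Matrix.fromBlocks_multiply, Matrix.transpose_mul])

theorem coe_lev (g : GL (Fin m) F) :
    ((lev g : Spm) : Mm) = Matrix.fromBlocks (g : Mq) 0 0 ((↑g⁻¹ : Mq)ᵀ) := rfl

/-- The unipotent element of a symmetric matrix. -/
def sieg (S : Mq) (hS : Sᵀ = S) : Spm := ⟨Matrix.fromBlocks 1 S 0 1, siegel_mem hS⟩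

theorem coe_sieg (S : Mq) (hS : Sᵀ = S) :
    ((sieg S hS : Spm) : Mm) = Matrix.fromBlocks 1 S 0 1 := rfl

theorem sieg_congr {S T : Mq} (h : S = T) (hS : Sᵀ = S) (hT : Tᵀ = T) : sieg S hS = sieg T hT := by
  subst h; rfl

theorem conj_symm (g : GL (Fin m) F) {S : Mq} (hS : Sᵀ = S) :
    ((g : Mq) * S * (g : Mq)ᵀ)ᵀ = (g : Mq) * S * (g : Mq)ᵀ := by
  rw [Matrix.transpose_mul, Matrix.transpose_mul, Matrix.transpose_transpose, hS, Matrix.mul_assoc]

theorem lev_sieg (g : GL (Fin m) F) (S : Mq) (hS : Sᵀ = S) :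
    lev g * sieg S hS * (lev g)⁻¹ = sieg ((g : Mq) * S * (g : Mq)ᵀ) (conj_symm g hS) := by
  rw [mul_inv_eq_iff_eq_mul]
  refine Subtype.ext ?_
  simp [coe_lev, coe_sieg, Matrix.fromBlocks_multiply, Matrix.mul_assoc, ← Matrix.transpose_mul]

theorem sieg_mul (S T : Mq) (hS : Sᵀ = S) (hT : Tᵀ = T) :
    sieg S hS * sieg T hT = sieg (S + T) (by rw [Matrix.transpose_add, hS, hT]) := by
  refine Subtype.ext ?_
  simp [coe_sieg, Matrix.fromBlocks_multiply, add_comm]

theorem sieg_zero : sieg (0 : Mq) Matrix.transpose_zero = 1 :=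
  Subtype.ext (by rw [coe_sieg, Matrix.fromBlocks_one, Submonoid.coe_one])

theorem sieg_neg (S : Mq) (hS : Sᵀ = S) :
    (sieg S hS)⁻¹ = sieg (-S) (by rw [Matrix.transpose_neg, hS]) := by
  rw [inv_eq_iff_mul_eq_one, sieg_mul, sieg_congr (add_neg_cancel S) _ Matrix.transpose_zero,
    sieg_zero]

/-- The hom from `SL₂` on the plane of the index `j`. -/
def plane (j : Fin m) : Matrix.SpecialLinearGroup (Fin 2) F →* Spm where
  toFun s := ⟨Matrix.fromBlocks
      (Matrix.diagonal fun i => if i = j then (s : Matrix (Fin 2) (Fin 2) F) 0 0 else 1)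
      (Matrix.diagonal fun i => if i = j then (s : Matrix (Fin 2) (Fin 2) F) 0 1 else 0)
      (Matrix.diagonal fun i => if i = j then (s : Matrix (Fin 2) (Fin 2) F) 1 0 else 0)
      (Matrix.diagonal fun i => if i = j then (s : Matrix (Fin 2) (Fin 2) F) 1 1 else 1),
    SymplecticGroup.fromBlocks_mem_iff.2 ⟨by simp [mul_comm], by simp [mul_comm], by
      have h := s.det_coe
      rw [Matrix.det_fin_two] at h
      ext a b
      by_cases hab : a = b
      · subst hab
        by_cases ha : a = j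
        · subst ha; simp; linear_combination h
        · simp [ha]
      · simp [Matrix.diagonal_apply_ne _ hab, Matrix.one_apply_ne hab]⟩⟩
  map_one' := Subtype.ext (by
    rw [Submonoid.coe_one, ← Matrix.fromBlocks_one]
    simp)
  map_mul' s t := Subtype.ext (by
    rw [Submonoid.coe_mul, Matrix.fromBlocks_multiply]
    simp only [Matrix.diagonal_mul_diagonal, Matrix.diagonal_add]
    congr 2 <;> funext i <;> by_cases hi : i = j <;>
      simp [hi, Matrix.mul_apply, Fin.sum_univ_two])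

theorem coe_plane (j : Fin m) (s : Matrix.SpecialLinearGroup (Fin 2) F) :
    ((plane j s : Spm) : Mm) = Matrix.fromBlocks
      (Matrix.diagonal fun i => if i = j then (s : Matrix (Fin 2) (Fin 2) F) 0 0 else 1)
      (Matrix.diagonal fun i => if i = j then (s : Matrix (Fin 2) (Fin 2) F) 0 1 else 0)
      (Matrix.diagonal fun i => if i = j then (s : Matrix (Fin 2) (Fin 2) F) 1 0 else 0)
      (Matrix.diagonal fun i => if i = j then (s : Matrix (Fin 2) (Fin 2) F) 1 1 else 1) := rfl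

/-- A transvection as an invertible matrix. -/
def tG {i j : Fin m} (h : i ≠ j) (c : F) : GL (Fin m) F :=
  ⟨Matrix.transvection i j c, Matrix.transvection i j (-c),
    by rw [Matrix.transvection_mul_transvection_same _ _ h, add_neg_cancel, Matrix.transvection_zero],
    by rw [Matrix.transvection_mul_transvection_same _ _ h, neg_add_cancel, Matrix.transvection_zero]⟩

theorem coe_tG {i j : Fin m} (h : i ≠ j) (c : F) :
    ((tG h c : GL (Fin m) F) : Mq) = Matrix.transvection i j c := rfl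

theorem coe_tG_inv {i j : Fin m} (h : i ≠ j) (c : F) :
    (((tG h c)⁻¹ : GL (Fin m) F) : Mq) = Matrix.transvection i j (-c) := rfl

/-- A diagonal matrix of units as an invertible matrix. -/
def dG (a : Fin m → Fˣ) : GL (Fin m) F :=
  ⟨Matrix.diagonal fun i => (a i : F), Matrix.diagonal fun i => ((a i)⁻¹ : Fˣ),
    by simp [Matrix.diagonal_mul_diagonal], by simp [Matrix.diagonal_mul_diagonal]⟩

theorem coe_dG (a : Fin m → Fˣ) :
    ((dG a : GL (Fin m) F) : Mq) = Matrix.diagonal fun i => (a i : F) := rfl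

theorem coe_lev_dG (a : Fin m → Fˣ) : ((lev (dG a) : Spm) : Mm) =
    Matrix.diagonal (Sum.elim (fun i => (a i : F)) fun i => (((a i)⁻¹ : Fˣ) : F)) := by
  rw [coe_lev, ← Matrix.fromBlocks_diagonal]
  show Matrix.fromBlocks _ 0 0 (Matrix.diagonal fun i => (((a i)⁻¹ : Fˣ) : F))ᵀ = _
  rw [Matrix.diagonal_transpose]
  rfl

/-- A permutation matrix as an invertible matrix. -/
def pG (σ : Equiv.Perm (Fin m)) : GL (Fin m) F :=
  ⟨Matrix.of fun i k => if σ i = k then 1 else 0, Matrix.of fun i k => if σ k = i then 1 else 0,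
    by ext i k; simp [Matrix.mul_apply, Matrix.one_apply, eq_comm],
    by
      ext i k
      rw [Matrix.mul_apply, Finset.sum_eq_single (σ.symm i)]
      · simp [Matrix.one_apply]
      · intro b _ hb
        have : σ b ≠ i := fun h => hb (by rw [← h, σ.symm_apply_apply])
        simp [this]
      · simp⟩

theorem pG_conj (σ : Equiv.Perm (Fin m)) (S : Mq) :
    ((pG σ : GL (Fin m) F) : Mq) * S * ((pG σ : GL (Fin m) F) : Mq)ᵀ =
      Matrix.of fun a b => S (σ a) (σ b) := by
  ext a b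
  simp [pG, Matrix.mul_apply]

theorem dG_conj (d : Fin m → Fˣ) (S : Mq) :
    ((dG d : GL (Fin m) F) : Mq) * S * ((dG d : GL (Fin m) F) : Mq)ᵀ =
      Matrix.of fun a b => (d a : F) * S a b * (d b : F) := by
  rw [coe_dG, Matrix.diagonal_transpose]
  ext a b
  simp [Matrix.diagonal_mul, Matrix.mul_diagonal]

/-! ### entries -/

theorem sp_col (s : Spm) (b : ℓ) : (s : Mm) *ᵥ Pi.single b 1 = fun a => (s : Mm) a b := by
  rw [Matrix.mulVec_single_one]; rfl

theorem stdForm_single_inl (x : Vm) (a : Fin m) :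
    sB x (Pi.single (Sum.inl a) 1) = x (Sum.inr a) := by
  rw [stdForm_apply, Finset.sum_eq_single a]
  · simp
  · intro b _ hb; simp [hb]
  · simp

theorem stdForm_single_inr (x : Vm) (a : Fin m) :
    sB x (Pi.single (Sum.inr a) 1) = -x (Sum.inl a) := by
  rw [stdForm_apply, Finset.sum_eq_single a]
  · simp
  · intro b _ hb; simp [hb]
  · simp

theorem rk_injective : Function.Injective (rk m) := by
  rintro (a | a) (b | b) h <;> simp only [rk, Sum.elim_inl, Sum.elim_inr] at h <;>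
    first | (congr 1; ext; omega) | (exfalso; have := a.2; have := b.2; omega)

theorem rk_inl_lt_inr (a b : Fin m) : rk m (Sum.inl a) < rk m (Sum.inr b) := by
  simp only [rk, Sum.elim_inl, Sum.elim_inr]
  have := a.2; have := b.2; omega

/-! ### the unitriangular subgroup -/

/-- Strictly upper triangular for the Borel ranking. -/
def Upper (s : Spm) : Prop := Strict (rk m) ((s : Mm) - 1)

theorem upper_iff (s : Spm) : Upper s ↔
    ∀ a b : ℓ, rk m b ≤ rk m a → (s : Mm) a b = if a = b then 1 else 0 := by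
  constructor <;> intro h a b hab
  · have := h a b hab
    rw [Matrix.sub_apply, sub_eq_zero, Matrix.one_apply] at this
    exact this
  · rw [Matrix.sub_apply, sub_eq_zero, Matrix.one_apply]
    exact h a b hab

section

variable [Finite F]

/-- The unitriangular subgroup. -/
def U : Subgroup Spm := uniR (rk m)

theorem mem_U {s : Spm} : s ∈ U ↔ Upper s :=
  ⟨fun h => mem_uniR h, fun h => Subgroup.subset_closure h⟩

theorem U_inl_block {s : Spm} (hs : s ∈ U) (a j : Fin m) :
    (s : Mm) (Sum.inr a) (Sum.inl j) = 0 := by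
  rw [(upper_iff s).1 (mem_U.1 hs) _ _ (rk_inl_lt_inr j a).le, if_neg (by simp)]

end

/-! ### the radical of the Lagrangian stabiliser -/

/-- The radical fixing the Lagrangian subspace. -/
def A : Subgroup Spm where
  carrier := {s | ∀ (a : ℓ) (j : Fin m), (s : Mm) a (Sum.inl j) = if a = Sum.inl j then 1 else 0}
  one_mem' a j := by rw [Submonoid.coe_one, Matrix.one_apply]
  mul_mem' := by
    intro s t hs ht a j
    rw [Submonoid.coe_mul, Matrix.mul_apply, Finset.sum_eq_single (Sum.inl j)]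
    · rw [hs, ht, if_pos rfl, mul_one]
    · intro b _ hb; rw [ht, if_neg hb, mul_zero]
    · simp
  inv_mem' := by
    intro s hs a j
    have h : ((s⁻¹ * s : Spm) : Mm) a (Sum.inl j) = if a = Sum.inl j then 1 else 0 := by
      rw [inv_mul_cancel, Submonoid.coe_one, Matrix.one_apply]
    rw [Submonoid.coe_mul, Matrix.mul_apply, Finset.sum_eq_single (Sum.inl j)] at h
    · rwa [hs, if_pos rfl, mul_one] at h
    · intro b _ hb; rw [hs, if_neg hb, mul_zero]
    · simp

theorem mem_A_iff {s : Spm} : s ∈ A ↔ ∃ (S : Mq) (hS : Sᵀ = S), s = sieg S hS := by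
  constructor
  · intro h
    have e : (s : Mm) = Matrix.fromBlocks 1 (s : Mm).toBlocks₁₂ 0 (s : Mm).toBlocks₂₂ := by
      conv_lhs => rw [← Matrix.fromBlocks_toBlocks (s : Mm)]
      congr 1
      · ext i j; rw [Matrix.toBlocks₁₁, Matrix.of_apply, h, Matrix.one_apply]; simp
      · ext i j; rw [Matrix.toBlocks₂₁, Matrix.of_apply, h]; simp
    have hs := s.2
    rw [e] at hs
    obtain ⟨-, h2, h3⟩ := SymplecticGroup.fromBlocks_mem_iff.1 hs
    have hD : (s : Mm).toBlocks₂₂ = 1 := by simpa using h3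
    rw [hD] at e h2
    refine ⟨(s : Mm).toBlocks₁₂, by simpa using h2, Subtype.ext ?_⟩
    rw [coe_sieg]
    exact e
  · rintro ⟨S, hS, rfl⟩ a j
    rw [coe_sieg]
    rcases a with a | a <;> simp [Matrix.one_apply]

theorem sieg_mem_A (S : Mq) (hS : Sᵀ = S) : sieg S hS ∈ A := mem_A_iff.2 ⟨S, hS, rfl⟩

theorem A_mulVec {s : Spm} (hs : s ∈ A) {v : Vm} (hv : ∀ a, v (Sum.inr a) = 0) :
    (s : Mm) *ᵥ v = v := by
  funext a
  simp only [Matrix.mulVec, dotProduct]
  rw [Fintype.sum_sum_type]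
  simp only [hv, mul_zero, Finset.sum_const_zero, add_zero]
  simp_rw [hs a]
  rcases a with a | a <;> simp [hv]

theorem mem_A_of_fix {s : Spm} (h : ∀ j : Fin m, (s : Mm) *ᵥ Pi.single (Sum.inl j) 1 = Pi.single (Sum.inl j) 1) :
    s ∈ A := fun a j => by
  have := congrFun (h j) a
  rw [sp_col, Pi.single_apply] at this
  exact this

theorem conj_mem_A {s t : Spm} (hs : ∀ a j : Fin m, ((s⁻¹ : Spm) : Mm) (Sum.inr a) (Sum.inl j) = 0)
    (ht : t ∈ A) : s * t * s⁻¹ ∈ A := by
  refine mem_A_of_fix fun j => ?_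
  rw [Submonoid.coe_mul, Submonoid.coe_mul, ← Matrix.mulVec_mulVec, ← Matrix.mulVec_mulVec,
    A_mulVec ht (fun a => by rw [sp_col]; exact hs a j), Matrix.mulVec_mulVec, ← Submonoid.coe_mul,
    mul_inv_cancel, Submonoid.coe_one, Matrix.one_mulVec]

theorem upper_of_mem_A {s : Spm} (h : s ∈ A) : Upper s := by
  obtain ⟨S, hS, rfl⟩ := mem_A_iff.1 h
  rw [upper_iff]
  rintro (a | a) (b | b) hab <;> simp [coe_sieg, Matrix.one_apply]
  simp only [rk, Sum.elim_inl, Sum.elim_inr] at hab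
  have := a.2; have := b.2; omega

theorem A_le_U [Finite F] : (A : Subgroup Spm) ≤ U := fun _ h => mem_U.2 (upper_of_mem_A h)

/-- An element commuting with a transvection has its centre as an eigenvector of eigenvalue `±1`. -/
theorem eigen_of_commute {s : Spm} {v : Vm} (hv : v ≠ 0) (h : Commute s (tvS v 1)) :
    ∃ μ : F, μ * μ = 1 ∧ (s : Mm) *ᵥ v = μ • v := by
  obtain ⟨x, hx⟩ := exists_not_perp hv
  have key : ∀ y : Vm, sB y v • (s : Mm) *ᵥ v = sB ((s : Mm) *ᵥ y) v • v := fun y => by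
    have := congrArg (fun z : Spm => (z : Mm) *ᵥ y) h.eq
    simpa [← Matrix.mulVec_mulVec, tvS_mulVec, Matrix.mulVec_add, Matrix.mulVec_smul] using this
  set μ := (sB x v)⁻¹ * sB ((s : Mm) *ᵥ x) v with hμ
  have hsv : (s : Mm) *ᵥ v = μ • v := by
    rw [hμ, ← smul_smul, ← key, smul_smul, inv_mul_cancel₀ hx, one_smul]
  refine ⟨μ, ?_, hsv⟩
  have h1 := sp_preserves s x v
  rw [hsv, map_smul, smul_eq_mul] at h1
  have h2 : sB ((s : Mm) *ᵥ x) v = μ * sB x v := by rw [hμ]; field_simp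
  rw [h2, ← mul_assoc] at h1
  exact (mul_eq_right₀ hx).1 h1

theorem exists_center_scalar {μ : F} (hμ : μ * μ = 1) :
    ∃ z ∈ Subgroup.center Spm, ∀ x : Vm, (z : Mm) *ᵥ x = μ • x := by
  rcases mul_self_eq_one_iff.1 hμ with rfl | rfl
  · exact ⟨1, one_mem _, fun x => by simp⟩
  · exact ⟨⟨-1, SymplecticGroup.neg_mem (Submonoid.one_mem _)⟩, mem_center_sp_iff.2 (Or.inr rfl),
      fun x => by simp [Matrix.neg_mulVec]⟩

theorem centralizer_A (hm : 0 < m) {s : Spm} (h : ∀ r ∈ A, Commute s r) :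
    ∃ z ∈ Subgroup.center Spm, ∃ r ∈ A, s = z * r := by
  set o : Fin m := ⟨0, hm⟩
  have hev : ∀ v : Vm, (∀ a, v (Sum.inr a) = 0) → v ≠ 0 →
      ∃ μ : F, μ * μ = 1 ∧ (s : Mm) *ᵥ v = μ • v := by
    refine fun v hv hv0 => eigen_of_commute hv0 (h _ (mem_A_of_fix fun j => ?_))
    rw [tvS_mulVec, (isSympForm_stdForm m F).swap, stdForm_single_inl, hv]
    simp
  obtain ⟨μ, hμ, hso⟩ := hev (Pi.single (Sum.inl o) 1) (fun a => by simp) (by simp)
  have hall : ∀ j, (s : Mm) *ᵥ Pi.single (Sum.inl j) 1 = μ • Pi.single (Sum.inl j) 1 := by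
    intro j
    by_cases hj : j = o
    · rw [hj]; exact hso
    obtain ⟨ν, -, hsj⟩ := hev (Pi.single (Sum.inl j) 1) (fun a => by simp) (by simp)
    obtain ⟨κ, -, hk⟩ := hev (Pi.single (Sum.inl o) 1 + Pi.single (Sum.inl j) 1) (fun a => by simp)
      (fun e => by have := congrFun e (Sum.inl o); simp [Ne.symm hj] at this)
    rw [Matrix.mulVec_add, hso, hsj] at hk
    have h1 := congrFun hk (Sum.inl o)
    have h2 := congrFun hk (Sum.inl j)
    simp [hj, Ne.symm hj] at h1 h2
    rw [hsj, h2, h1]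
  obtain ⟨z, hz, hzx⟩ := exists_center_scalar (m := m) hμ
  refine ⟨z, hz, z⁻¹ * s, mem_A_of_fix fun j => ?_, by group⟩
  rw [Submonoid.coe_mul, ← Matrix.mulVec_mulVec, hall, ← hzx, Matrix.mulVec_mulVec,
    ← Submonoid.coe_mul, inv_mul_cancel, Submonoid.coe_one, Matrix.one_mulVec]

/-! ### the radical of a point stabiliser -/

/-- The radical of the stabiliser of a point. -/
def Q (o : Fin m) : Subgroup Spm where
  carrier := {s | (s : Mm) *ᵥ Pi.single (Sum.inl o) 1 = Pi.single (Sum.inl o) 1 ∧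
    ∀ w : Vm, w (Sum.inr o) = 0 → ∃ μ : F, (s : Mm) *ᵥ w = w + μ • Pi.single (Sum.inl o) 1}
  one_mem' := ⟨by rw [Submonoid.coe_one, Matrix.one_mulVec], fun w _ => ⟨0, by simp⟩⟩
  mul_mem' := by
    intro s t hs ht
    refine ⟨by rw [Submonoid.coe_mul, ← Matrix.mulVec_mulVec, ht.1, hs.1], fun w hw => ?_⟩
    obtain ⟨μ, h1⟩ := ht.2 w hw
    obtain ⟨ν, h2⟩ := hs.2 w hw
    refine ⟨ν + μ, ?_⟩
    rw [Submonoid.coe_mul, ← Matrix.mulVec_mulVec, h1, Matrix.mulVec_add, Matrix.mulVec_smul, h2,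
      hs.1, add_assoc, add_smul]
  inv_mem' := by
    intro s hs
    have hid : ∀ x : Vm, ((s⁻¹ : Spm) : Mm) *ᵥ ((s : Mm) *ᵥ x) = x := fun x => by
      rw [Matrix.mulVec_mulVec, ← Submonoid.coe_mul, inv_mul_cancel, Submonoid.coe_one,
        Matrix.one_mulVec]
    have he := hid (Pi.single (Sum.inl o) 1)
    rw [hs.1] at he
    refine ⟨he, fun w hw => ?_⟩
    obtain ⟨μ, h1⟩ := hs.2 w hw
    refine ⟨-μ, ?_⟩
    have h2 := hid w
    rw [h1, Matrix.mulVec_add, Matrix.mulVec_smul, he] at h2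
    rw [neg_smul, eq_add_neg_iff_add_eq, h2]

theorem conj_mem_Q {o : Fin m} {g t : Spm} {c : F} (hc : c ≠ 0)
    (hg : (g : Mm) *ᵥ Pi.single (Sum.inl o) 1 = c • Pi.single (Sum.inl o) 1) (ht : t ∈ Q o) :
    g * t * g⁻¹ ∈ Q o := by
  have hid : ∀ x : Vm, (g : Mm) *ᵥ (((g⁻¹ : Spm) : Mm) *ᵥ x) = x := fun x => by
    rw [Matrix.mulVec_mulVec, ← Submonoid.coe_mul, mul_inv_cancel, Submonoid.coe_one,
      Matrix.one_mulVec]
  have hge : ((g⁻¹ : Spm) : Mm) *ᵥ Pi.single (Sum.inl o) 1 = c⁻¹ • Pi.single (Sum.inl o) 1 := by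
    have := congrArg (fun x => c⁻¹ • ((g⁻¹ : Spm) : Mm) *ᵥ x) hg
    simp only [Matrix.mulVec_mulVec, ← Submonoid.coe_mul, inv_mul_cancel, Submonoid.coe_one,
      Matrix.one_mulVec, Matrix.mulVec_smul, smul_smul, inv_mul_cancel₀ hc, one_smul] at this
    exact this.symm
  have key : ∀ x : Vm, ((g * t * g⁻¹ : Spm) : Mm) *ᵥ x =
      (g : Mm) *ᵥ ((t : Mm) *ᵥ (((g⁻¹ : Spm) : Mm) *ᵥ x)) := fun x => by
    simp only [Submonoid.coe_mul, ← Matrix.mulVec_mulVec]
  refine ⟨?_, fun w hw => ?_⟩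
  · rw [key, hge, Matrix.mulVec_smul, ht.1, Matrix.mulVec_smul, hg, smul_smul, inv_mul_cancel₀ hc,
      one_smul]
  · have h0 : (((g⁻¹ : Spm) : Mm) *ᵥ w) (Sum.inr o) = 0 := by
      have h := sp_preserves g⁻¹ w ((g : Mm) *ᵥ Pi.single (Sum.inl o) 1)
      rw [Matrix.mulVec_mulVec, ← Submonoid.coe_mul, inv_mul_cancel, Submonoid.coe_one,
        Matrix.one_mulVec, hg, stdForm_single_inl, map_smul, stdForm_single_inl, hw, smul_zero] at h
      exact h
    obtain ⟨μ, h1⟩ := ht.2 _ h0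
    refine ⟨μ * c, ?_⟩
    rw [key, h1, Matrix.mulVec_add, hid, Matrix.mulVec_smul, hg, smul_smul]

theorem Q_le_U [Finite F] {o : Fin m} (ho : o.val = 0) : (Q o : Subgroup Spm) ≤ U := by
  intro s hs
  refine mem_U.2 ((upper_iff s).2 fun a b hab => ?_)
  by_cases hb : b = Sum.inr o
  · subst hb
    have ha : a = Sum.inr o := rk_injective (by
      rcases a with a | a <;> simp only [rk, Sum.elim_inl, Sum.elim_inr] at hab ⊢ <;>
        have := a.2 <;> omega)
    subst ha
    rw [if_pos rfl]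
    have h := sp_preserves s (Pi.single (Sum.inr o) 1) (Pi.single (Sum.inl o) 1)
    rw [hs.1, stdForm_single_inl, stdForm_single_inl, sp_col] at h
    simpa using h
  · obtain ⟨μ, hμ⟩ := hs.2 (Pi.single b 1) (by simp [Ne.symm hb])
    have h := congrFun hμ a
    rw [sp_col] at h
    simp only [Pi.add_apply, Pi.smul_apply, Pi.single_apply] at h
    rw [h]
    by_cases ha : a = Sum.inl o
    · subst ha
      have hbo : b = Sum.inl o := rk_injective (by
        simp only [rk, Sum.elim_inl] at hab ⊢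
        rcases b with b | b <;> simp only [Sum.elim_inl, Sum.elim_inr] at hab ⊢ <;>
          have := b.2 <;> omega)
      subst hbo
      have h1 := congrFun hs.1 (Sum.inl o)
      have h2 := congrFun hμ (Sum.inl o)
      simp only [h1, Pi.add_apply, Pi.smul_apply, Pi.single_eq_same, smul_eq_mul, mul_one,
        left_eq_add] at h2
      simp [h2]
    · simp [ha]

/-- The Eichler element of a vector orthogonal to the point. -/
noncomputable def eich (o : Fin m) (w : Vm) : Spm :=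
  tvS (Pi.single (Sum.inl o) 1 + w) 1 * tvS (Pi.single (Sum.inl o) 1) (-1) * tvS w (-1)

theorem eich_mulVec (o : Fin m) {w : Vm} (hw : w (Sum.inr o) = 0) (x : Vm) :
    (eich o w : Mm) *ᵥ x = x + sB x w • Pi.single (Sum.inl o) 1 + x (Sum.inr o) • w := by
  have h1 : sB w (Pi.single (Sum.inl o) 1) = 0 := by rw [stdForm_single_inl, hw]
  have h2 : sB (Pi.single (Sum.inl o) 1) w = 0 := by
    rw [(isSympForm_stdForm m F).swap, h1, neg_zero]
  have he : sB (Pi.single (Sum.inl o) (1 : F)) (Pi.single (Sum.inl o) 1) = 0 :=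
    (isSympForm_stdForm m F).self _
  rw [← stdForm_single_inl x o]
  simp only [eich, Submonoid.coe_mul, ← Matrix.mulVec_mulVec, tvS_mulVec, map_add, map_smul,
    LinearMap.add_apply, LinearMap.smul_apply, smul_eq_mul, h1, h2, he,
    (isSympForm_stdForm m F).self w, mul_zero, add_zero]
  module

theorem eich_mem_Q (o : Fin m) {w : Vm} (hw : w (Sum.inr o) = 0) : eich o w ∈ Q o := by
  refine ⟨?_, fun u hu => ⟨sB u w, ?_⟩⟩
  · rw [eich_mulVec o hw, (isSympForm_stdForm m F).swap, stdForm_single_inl, hw]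
    simp
  · rw [eich_mulVec o hw, hu]; simp

theorem tvS_mem_Q (o : Fin m) : tvS (Pi.single (Sum.inl o) (1 : F)) 1 ∈ Q o := by
  refine ⟨?_, fun u hu => ⟨0, ?_⟩⟩
  · rw [tvS_mulVec, (isSympForm_stdForm m F).self]; simp
  · rw [tvS_mulVec, stdForm_single_inl, hu]; simp

theorem centralizer_Q (o : Fin m) {s : Spm} (h : ∀ r ∈ Q o, Commute s r) :
    ∃ z ∈ Subgroup.center Spm, ∃ r ∈ Q o, s = z * r := by
  obtain ⟨ε, hε, hse⟩ := eigen_of_commute (by simp) (h _ (tvS_mem_Q o))
  obtain ⟨z, hz, hzx⟩ := exists_center_scalar (m := m) hε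
  have hzi : ∀ x : Vm, ((z⁻¹ : Spm) : Mm) *ᵥ (ε • x) = x := fun x => by
    rw [← hzx, Matrix.mulVec_mulVec, ← Submonoid.coe_mul, inv_mul_cancel, Submonoid.coe_one,
      Matrix.one_mulVec]
  refine ⟨z, hz, z⁻¹ * s, ⟨?_, fun w hw => ?_⟩, by group⟩
  · rw [Submonoid.coe_mul, ← Matrix.mulVec_mulVec, hse, hzi]
  · set f : Vm := Pi.single (Sum.inr o) 1
    have hfo : f (Sum.inr o) = 1 := by simp [f]
    have key := congrArg (fun t : Spm => (t : Mm) *ᵥ f) (h _ (eich_mem_Q o hw)).eq
    simp only [Submonoid.coe_mul, ← Matrix.mulVec_mulVec, eich_mulVec o hw, hfo, one_smul,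
      Matrix.mulVec_add, Matrix.mulVec_smul, hse] at key
    -- the coordinate of `s f`
    have hsf : ((s : Mm) *ᵥ f) (Sum.inr o) = ε := by
      have h1 := sp_preserves s f (Pi.single (Sum.inl o) 1)
      rw [hse, map_smul, stdForm_single_inl, stdForm_single_inl, hfo, smul_eq_mul] at h1
      linear_combination ε * h1 - ((s : Mm) *ᵥ f) (Sum.inr o) * hε
    rw [hsf] at key
    refine ⟨ε * (sB ((s : Mm) *ᵥ f) w - ε * sB f w), ?_⟩
    have hsw : (s : Mm) *ᵥ w =
        ε • w + (sB ((s : Mm) *ᵥ f) w - ε * sB f w) • Pi.single (Sum.inl o) 1 := by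
      linear_combination (norm := module) key
    rw [Submonoid.coe_mul, ← Matrix.mulVec_mulVec, hsw, ← hzi (w + _)]
    congr 1
    rw [smul_add, smul_smul, ← mul_assoc, hε, one_mul]

end Cfsg.Agent.Lib.FusionClassical.Symplectic
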