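import Cfsg.Agent.Lib.FusionClassical.Symplectic

/-!
# Simplicity of the fusion systems of the projective symplectic groups
-/

set_option autoImplicit false

namespace Cfsg.Agent.Lib.FusionClassical.Symplectic

open Matrix Cfsg.Agent.Lib.AutPSp Cfsg.Agent.Lib.Symplectic

variable {m : ℕ} {F : Type*} [Field F]

local notation "ℓ" => (Fin m ⊕ Fin m)
local notation "Vm" => (Fin m ⊕ Fin m → F)
local notation "Mm" => Matrix (Fin m ⊕ Fin m) (Fin m ⊕ Fin m) F
local notation "Mq" => Matrix (Fin m) (Fin m) F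
local notation "Spm" => Matrix.symplecticGroup (Fin m) F
local notation "sB" => stdForm m F

/-- Preserves the standard flag. -/
def Tri (g : Spm) : Prop := ∀ a b : ℓ, rk m b < rk m a → (g : Mm) a b = 0

theorem tri_diag_mul {g h : Spm} (hg : Tri g) (hh : Tri h) (a : ℓ) :
    ((g * h : Spm) : Mm) a a = (g : Mm) a a * (h : Mm) a a := by
  rw [Submonoid.coe_mul, Matrix.mul_apply, Finset.sum_eq_single a]
  · intro c _ hc
    rcases (rk_injective.ne hc).lt_or_gt with h' | h'
    · rw [hg _ _ h', zero_mul]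
    · rw [hh _ _ h', mul_zero]
  · simp

theorem tri_one : Tri (1 : Spm) := fun a b hab => by
  rw [Submonoid.coe_one, Matrix.one_apply_ne (fun e => by rw [e] at hab; exact lt_irrefl _ hab)]

theorem Tri.mul {g h : Spm} (hg : Tri g) (hh : Tri h) : Tri (g * h) := fun a b hab => by
  rw [Submonoid.coe_mul, Matrix.mul_apply]
  refine Finset.sum_eq_zero fun c _ => ?_
  rcases lt_or_ge (rk m c) (rk m a) with h' | h'
  · rw [hg _ _ h', zero_mul]
  · rw [hh _ _ (lt_of_lt_of_le hab h'), mul_zero]

theorem tri_pow {g : Spm} (hg : Tri g) (a : ℓ) :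
    ∀ n : ℕ, Tri (g ^ n) ∧ ((g ^ n : Spm) : Mm) a a = (g : Mm) a a ^ n
  | 0 => ⟨by rw [pow_zero]; exact tri_one, by rw [pow_zero, pow_zero, Submonoid.coe_one, Matrix.one_apply_eq]⟩
  | n + 1 => by
    obtain ⟨h1, h2⟩ := tri_pow hg a n
    exact ⟨by rw [pow_succ]; exact h1.mul hg, by rw [pow_succ, tri_diag_mul h1 hg, h2, pow_succ]⟩

theorem diag_rel {g : Spm} (hg : Tri g) (i : Fin m) :
    (g : Mm) (Sum.inl i) (Sum.inl i) * (g : Mm) (Sum.inr i) (Sum.inr i) = 1 := by
  have h := sp_preserves g (Pi.single (Sum.inr i) 1) (Pi.single (Sum.inl i) 1)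
  rw [stdForm_single_inl, sp_col, sp_col, stdForm_apply, Finset.sum_eq_single i] at h
  · simp only [hg _ _ (rk_inl_lt_inr i i), mul_zero, sub_zero, Pi.single_eq_same] at h
    rw [mul_comm, h]
  · intro b _ hb
    have h0 : (g : Mm) (Sum.inr b) (Sum.inl i) = 0 := hg _ _ (rk_inl_lt_inr i b)
    rcases (Fin.val_ne_iff.2 hb).lt_or_gt with h' | h'
    · rw [h0, hg (Sum.inr b) (Sum.inr i) (by simp only [rk, Sum.elim_inr]; have := i.2; omega)]
      ring
    · rw [h0, hg (Sum.inl b) (Sum.inl i) (by simpa [rk] using h')]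
      ring
  · simp

theorem coe_lev_tG {i j : Fin m} (h : i ≠ j) (c : F) : ((lev (tG h c) : Spm) : Mm) =
    Matrix.fromBlocks (Matrix.transvection i j c) 0 0 (Matrix.transvection i j (-c))ᵀ := rfl

theorem lev_tG_mem_U [Finite F] {i j : Fin m} (h : i < j) (c : F) :
    lev (tG h.ne c) ∈ (U : Subgroup Spm) := by
  refine mem_U.2 ((upper_iff _).2 ?_)
  have h' : i.val < j.val := h
  rintro (a | a) (b | b) hab <;> simp only [rk, Sum.elim_inl, Sum.elim_inr] at hab <;>
    simp [coe_lev_tG, Matrix.transvection, Matrix.one_apply, Matrix.single_apply,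
      Fin.ext_iff, eq_comm]
  all_goals omega

/-- The upper elementary element used for the entry above the diagonal at `a`. -/
theorem exists_elementary [Finite F] (a : ℓ) (ha : 0 < rk m a) :
    ∃ u ∈ (U : Subgroup Spm), ∃ a' : ℓ, rk m a' < rk m a ∧
      (∀ c : ℓ, rk m a' < rk m c → rk m a ≤ rk m c) ∧ (u : Mm) a' a ≠ 0 := by
  rcases a with ⟨t, ht⟩ | ⟨t, ht⟩
  · simp only [rk, Sum.elim_inl] at ha
    have hne : (⟨t - 1, by omega⟩ : Fin m) ≠ ⟨t, ht⟩ := by simp [Fin.ext_iff]; omega
    refine ⟨lev (tG hne 1), ?_, Sum.inl ⟨t - 1, by omega⟩, by simp [rk]; omega, ?_, ?_⟩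
    · exact lev_tG_mem_U (by simp [Fin.lt_def]; omega) 1
    · rintro (c | c) hc <;> simp only [rk, Sum.elim_inl, Sum.elim_inr] at hc ⊢ <;> omega
    · simp [coe_lev_tG, Matrix.transvection, hne]
  · by_cases hl : t + 1 = m
    · set S : Mq := Matrix.single (⟨t, ht⟩ : Fin m) ⟨t, ht⟩ (1 : F) with hSdef
      have hS : Sᵀ = S := Matrix.transpose_single ..
      refine ⟨sieg S hS, A_le_U (sieg_mem_A _ _), Sum.inl ⟨t, ht⟩, rk_inl_lt_inr _ _, ?_, ?_⟩
      · rintro (c | c) hc <;> simp only [rk, Sum.elim_inl, Sum.elim_inr] at hc ⊢ <;> omega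
      · simp [coe_sieg, hSdef]
    · have hne : (⟨t, ht⟩ : Fin m) ≠ ⟨t + 1, by omega⟩ := by simp [Fin.ext_iff]
      refine ⟨lev (tG hne 1), ?_, Sum.inr ⟨t + 1, by omega⟩, by simp [rk]; omega, ?_, ?_⟩
      · exact lev_tG_mem_U (by simp [Fin.lt_def]) 1
      · rintro (c | c) hc <;> simp only [rk, Sum.elim_inl, Sum.elim_inr] at hc ⊢ <;> omega
      · simp [coe_lev_tG, Matrix.transvection, hne]

theorem tri_of_normalizes [Finite F] {g : Spm} (hg : ∀ u ∈ (U : Subgroup Spm), g * u * g⁻¹ ∈ U) :
    Tri g := by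
  have hsurj : ∀ u ∈ (U : Subgroup Spm), ∃ u₀ ∈ (U : Subgroup Spm), g * u₀ * g⁻¹ = u := by
    intro u hu
    let f : ↥(U : Subgroup Spm) → ↥(U : Subgroup Spm) := fun x => ⟨g * x.1 * g⁻¹, hg x.1 x.2⟩
    have hf : Function.Injective f := fun x y hxy =>
      Subtype.ext (mul_left_cancel (mul_right_cancel (congrArg Subtype.val hxy)))
    obtain ⟨x, hx⟩ := (Finite.surjective_of_injective hf) ⟨u, hu⟩
    exact ⟨x, x.2, congrArg Subtype.val hx⟩
  suffices key : ∀ n : ℕ, ∀ b : ℓ, rk m b = n → ∀ a, rk m b < rk m a → (g : Mm) a b = 0 from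
    fun a b hab => key _ b rfl a hab
  intro n
  induction n using Nat.strong_induction_on with
  | _ n ih =>
    intro b hb
    by_contra hcon
    push Not at hcon
    obtain ⟨a₀, ha₀, hga₀⟩ := hcon
    classical
    obtain ⟨a, ha, hmax⟩ := Finset.exists_max_image
      (Finset.univ.filter fun a => rk m b < rk m a ∧ (g : Mm) a b ≠ 0) (rk m)
      ⟨a₀, by simp [ha₀, hga₀]⟩
    simp only [Finset.mem_filter, Finset.mem_univ, true_and] at ha hmax
    obtain ⟨hab, hga⟩ := ha
    obtain ⟨u, hu, a', ha', hnext, hua⟩ := exists_elementary (F := F) a (by omega)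
    obtain ⟨u₀, hu₀, hconj⟩ := hsurj u hu
    have e : ((u : Mm) - 1) * (g : Mm) = (g : Mm) * ((u₀ : Mm) - 1) := by
      rw [Matrix.sub_mul, Matrix.mul_sub, Matrix.one_mul, Matrix.mul_one, ← Submonoid.coe_mul,
        ← Submonoid.coe_mul, ← hconj, inv_mul_cancel_right]
    have hba' : rk m b ≤ rk m a' := by
      by_contra h
      have := hnext b (not_le.1 h)
      omega
    have hu' := mem_U.1 hu
    have h1 : (((u : Mm) - 1) * (g : Mm)) a' b = (u : Mm) a' a * (g : Mm) a b := by
      rw [Matrix.mul_apply, Finset.sum_eq_single a]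
      · rw [Matrix.sub_apply, Matrix.one_apply_ne (fun e => by rw [e] at ha'; omega), sub_zero]
      · intro c _ hc
        rcases le_or_gt (rk m c) (rk m a') with h' | h'
        · rw [hu' a' c h', zero_mul]
        · have h2 := hnext c h'
          by_contra hne
          have h3 := hmax c ⟨by omega, right_ne_zero_of_mul hne⟩
          exact hc (rk_injective (le_antisymm h3 h2))
      · simp
    have h2 : ((g : Mm) * ((u₀ : Mm) - 1)) a' b = 0 := by
      rw [Matrix.mul_apply]
      refine Finset.sum_eq_zero fun c _ => ?_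
      rcases lt_or_ge (rk m c) (rk m b) with h' | h'
      · rw [ih (rk m c) (hb ▸ h') c rfl a' (by omega), zero_mul]
      · rw [mem_U.1 hu₀ c b h', mul_zero]
    rw [e, h2] at h1
    exact mul_ne_zero hua hga h1.symm

theorem conj_mem_U_of_diag [Finite F] {d : ℓ → F} {t u : Spm} (ht : (t : Mm) = Matrix.diagonal d)
    (hu : u ∈ (U : Subgroup Spm)) : t * u * t⁻¹ ∈ (U : Subgroup Spm) := by
  refine mem_U.2 fun a b hab => ?_
  have hd : ∀ a, d a ≠ 0 := by
    intro a h0
    have h1 : ((t * t⁻¹ : Spm) : Mm) a a = 1 := by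
      rw [mul_inv_cancel, Submonoid.coe_one, Matrix.one_apply_eq]
    rw [Submonoid.coe_mul, ht, Matrix.diagonal_mul, h0, zero_mul] at h1
    exact zero_ne_one h1
  have e : (((t * u * t⁻¹ : Spm) : Mm) - 1) * Matrix.diagonal d = Matrix.diagonal d * ((u : Mm) - 1) := by
    rw [Matrix.sub_mul, Matrix.mul_sub, Matrix.one_mul, Matrix.mul_one, ← ht, ← Submonoid.coe_mul,
      ← Submonoid.coe_mul, inv_mul_cancel_right]
  have h := congrFun (congrFun e a) b
  rw [Matrix.mul_diagonal, Matrix.diagonal_mul, mem_U.1 hu a b hab, mul_zero] at h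
  exact (mul_eq_zero.1 h).resolve_right (hd b)

/-- A symplectic matrix normalising `U` is a torus element times a unitriangular one. -/
theorem exists_torus [Finite F] {g : Spm} (hg : Tri g) :
    ∃ a : Fin m → Fˣ, (lev (dG a))⁻¹ * g ∈ (U : Subgroup Spm) := by
  have hne : ∀ i, (g : Mm) (Sum.inl i) (Sum.inl i) ≠ 0 := fun i h0 => by
    have := diag_rel hg i
    simp [h0] at this
  refine ⟨fun i => Units.mk0 _ (hne i), mem_U.2 ((upper_iff _).2 fun a b hab => ?_)⟩
  rw [← map_inv, show (dG fun i => Units.mk0 _ (hne i) : GL (Fin m) F)⁻¹ =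
    dG (fun i => (Units.mk0 _ (hne i))⁻¹) from Units.ext rfl, Submonoid.coe_mul, coe_lev_dG,
    Matrix.diagonal_mul]
  rcases eq_or_ne a b with rfl | hne'
  · rw [if_pos rfl]
    rcases a with i | i
    · simp [inv_mul_cancel₀ (hne i)]
    · simp [diag_rel hg i]
  · rw [if_neg hne', hg a b (lt_of_le_of_ne hab (rk_injective.ne hne').symm), mul_zero]

theorem mem_U_of_tri_pow [Finite F] (p : ℕ) [Fact p.Prime] [CharP F p] {g : Spm} (hg : Tri g) {k : ℕ}
    (hk : g ^ p ^ k = 1) : g ∈ (U : Subgroup Spm) := by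
  refine mem_U.2 ((upper_iff g).2 fun a b hab => ?_)
  rcases eq_or_ne a b with rfl | hne
  · rw [if_pos rfl]
    have h := (tri_pow hg a (p ^ k)).2
    rw [hk, Submonoid.coe_one, Matrix.one_apply_eq] at h
    have h1 : ((g : Mm) a a - 1) ^ p ^ k = 0 := by rw [sub_pow_char_pow, one_pow, ← h, sub_self]
    exact sub_eq_zero.1 (eq_zero_of_pow_eq_zero h1)
  · rw [if_neg hne, hg a b (lt_of_le_of_ne hab (rk_injective.ne hne).symm)]

/-! ### generation by `p`-elements -/

theorem transvection_pow {ι : Type*} [Fintype ι] [DecidableEq ι] {i j : ι} (h : i ≠ j) (c : F) :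
    ∀ n : ℕ, (Matrix.transvection i j c) ^ n = Matrix.transvection i j (n * c)
  | 0 => by simp
  | n + 1 => by
    rw [pow_succ, transvection_pow h c n, Matrix.transvection_mul_transvection_same _ _ h,
      Nat.cast_succ, add_mul, one_mul]

theorem sl_mem_closure {ι : Type*} [Fintype ι] [DecidableEq ι] (p : ℕ) [CharP F p]
    (f : Matrix.SpecialLinearGroup ι F →* Spm) (R : Subgroup Spm)
    (hR : ∀ s, ∀ r ∈ R, f s * r * (f s)⁻¹ ∈ R) (s : Matrix.SpecialLinearGroup ι F) :
    f s ∈ Subgroup.closure {x : Spm | (∀ r ∈ R, x * r * x⁻¹ ∈ R) ∧ ∃ k : ℕ, x ^ p ^ k = 1} := by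
  refine Subgroup.mem_comap.1 (show s ∈ Subgroup.comap f _ from ?_)
  rw [Cfsg.Agent.Lib.Linear.sl_eq_top_of_transvection_mem (Subgroup.comap f _) fun i j hij c => ?_]
  · trivial
  · refine Subgroup.subset_closure ⟨hR _, 1, ?_⟩
    rw [pow_one, ← map_pow, show Matrix.SpecialLinearGroup.transvection hij c ^ p = 1 from
      Subtype.ext (by
        rw [Matrix.SpecialLinearGroup.coe_pow, Matrix.SpecialLinearGroup.transvection_coe,
          show 1 + Matrix.single i j c = Matrix.transvection i j c from rfl,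
          transvection_pow hij, CharP.cast_eq_zero, zero_mul, Matrix.transvection_zero]
        rfl), map_one]

theorem plane_mulVec_other {o j : Fin m} (h : o ≠ j) (s : Matrix.SpecialLinearGroup (Fin 2) F) :
    (plane j s : Mm) *ᵥ Pi.single (Sum.inl o) 1 = (1 : F) • Pi.single (Sum.inl o) 1 := by
  rw [sp_col, one_smul]
  funext a
  rcases a with a | a <;> simp [coe_plane, Matrix.diagonal_apply, Pi.single_apply]
  · split_ifs with h1 h2 <;> simp_all
  · intro h1; subst h1; simp [h]

theorem lev_conj_A (g : GL (Fin m) F) {r : Spm} (hr : r ∈ A) : lev g * r * (lev g)⁻¹ ∈ A :=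
  conj_mem_A (fun a j => by rw [← map_inv, coe_lev]; simp) hr

theorem U_conj_A [Finite F] {u r : Spm} (hu : u ∈ (U : Subgroup Spm)) (hr : r ∈ A) :
    u * r * u⁻¹ ∈ A := conj_mem_A (U_inl_block (inv_mem hu)) hr

/-! ### symmetric matrices in a strongly closed subgroup -/

/-- The symmetric elementary matrix. -/
def sym (i k : Fin m) (c : F) : Mq := Matrix.single i k c + Matrix.single k i c

theorem sym_symm (i k : Fin m) (c : F) : (sym i k c)ᵀ = sym i k c := by
  rw [sym, Matrix.transpose_add, Matrix.transpose_single, Matrix.transpose_single, add_comm]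

/-- The rotation of a plane. -/
def rot : Matrix.SpecialLinearGroup (Fin 2) F := ⟨!![0, 1; -1, 0], by simp [Matrix.det_fin_two]⟩

theorem coe_rot : ((rot : Matrix.SpecialLinearGroup (Fin 2) F) : Matrix (Fin 2) (Fin 2) F) =
    !![0, 1; -1, 0] := rfl

/-- The change of a symmetric matrix under a transvection. -/
def stepD (i j : Fin m) (S : Mq) : Mq :=
  Matrix.transvection i j 1 * S * (Matrix.transvection i j 1)ᵀ - S

theorem stepD_apply (i j : Fin m) (S : Mq) (a b : Fin m) :
    stepD i j S a b = (if a = i then S j b else 0) + (if b = i then S a j else 0) +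
      (if a = i ∧ b = i then S j j else 0) := by
  have hT : ∀ (M : Mq) (x y : Fin m), ((Matrix.transvection i j 1 : Mq) * M) x y =
      M x y + if x = i then M j y else 0 := fun M x y => by
    by_cases hx : x = i
    · subst hx; simp
    · simp [hx]
  have hR : ∀ (M : Mq) (x y : Fin m), (M * (Matrix.transvection i j 1 : Mq)ᵀ) x y =
      M x y + if y = i then M x j else 0 := fun M x y => by
    rw [show M * (Matrix.transvection i j 1)ᵀ = (Matrix.transvection i j 1 * Mᵀ)ᵀ by
      rw [Matrix.transpose_mul, Matrix.transpose_transpose], Matrix.transpose_apply, hT]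
    rfl
  rw [stepD, Matrix.sub_apply, hR, hT, hT]
  split_ifs <;> simp_all <;> ring

/-- The symmetric matrices whose unipotent elements lie in `T`. -/
def symPart (T : Subgroup Spm) : AddSubgroup Mq where
  carrier := {S | ∃ hS : Sᵀ = S, sieg S hS ∈ T}
  zero_mem' := ⟨Matrix.transpose_zero, by rw [sieg_zero]; exact one_mem T⟩
  add_mem' := by
    rintro S S' ⟨hS, h⟩ ⟨hS', h'⟩
    exact ⟨_, sieg_mul S S' hS hS' ▸ mul_mem h h'⟩
  neg_mem' := by
    rintro S ⟨hS, h⟩
    exact ⟨_, sieg_neg S hS ▸ inv_mem h⟩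

variable [Finite F] (T : Subgroup (Matrix.symplecticGroup (Fin m) F))
variable (hTU : T ≤ (U : Subgroup (Matrix.symplecticGroup (Fin m) F)))
variable (hT : ∀ (g t : Matrix.symplecticGroup (Fin m) F), t ∈ T →
    g * t * g⁻¹ ∈ (U : Subgroup (Matrix.symplecticGroup (Fin m) F)) → g * t * g⁻¹ ∈ T)

include hT

theorem symPart_conj (g : GL (Fin m) F) {S : Mq} (h : S ∈ symPart T) :
    (g : Mq) * S * (g : Mq)ᵀ ∈ symPart T := by
  obtain ⟨hS, h⟩ := h
  refine ⟨conj_symm g hS, ?_⟩
  rw [← lev_sieg g S hS]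
  exact hT _ _ h (by rw [lev_sieg g S hS]; exact A_le_U (sieg_mem_A _ _))

theorem step_mem {i j : Fin m} (hij : i ≠ j) {S : Mq} (h : S ∈ symPart T) :
    stepD i j S ∈ symPart T := by
  have := sub_mem (symPart_conj T hT (tG hij 1) h) h
  rwa [coe_tG] at this

/-- A pure off-diagonal symmetric matrix in the symmetric part. -/
theorem exists_sym (hm : 2 ≤ m) (hq : m = 2 → ∃ y : F, y ≠ 0 ∧ y ≠ 1) {S : Mq}
    (hS : S ∈ symPart T) (hS0 : S ≠ 0) :
    ∃ (i k : Fin m) (c : F), i ≠ k ∧ c ≠ 0 ∧ sym i k c ∈ symPart T := by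
  classical
  obtain ⟨hSs, -⟩ := id hS
  have hsymm : ∀ a b, S a b = S b a := fun a b => by
    conv_lhs => rw [← hSs]
    rfl
  rcases Nat.lt_or_ge m 3 with hm3 | hm3
  · have hm2 : m = 2 := by omega
    have htwo : ∀ i j a : Fin m, i ≠ j → a = i ∨ a = j := fun i j a h => by
      simp only [ne_eq, Fin.ext_iff] at h ⊢; omega
    by_cases hd : ∃ j, S j j ≠ 0
    · obtain ⟨j, hj⟩ := hd
      obtain ⟨y, hy0, hy1⟩ := hq hm2
      haveI : Nontrivial (Fin m) := Fin.nontrivial_iff_two_le.2 hm
      obtain ⟨i, hij⟩ := exists_ne j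
      set D := stepD i j S with hD
      set d : Fin m → Fˣ := fun a => if a = j then Units.mk0 y hy0 else 1 with hd'
      refine ⟨i, j, (y - 1) * S j j, hij, mul_ne_zero (sub_ne_zero.2 hy1) hj, ?_⟩
      have hmem := sub_mem (symPart_conj T hT (dG d) (step_mem T hT hij hS)) (step_mem T hT hij hS)
      convert hmem using 1
      ext a b
      rw [dG_conj, Matrix.sub_apply, Matrix.of_apply, stepD_apply]
      rcases htwo i j a hij with rfl | rfl <;> rcases htwo _ _ b hij with rfl | rfl <;>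
        simp [sym, hd', hij, hij.symm] <;> ring
    · push Not at hd
      obtain ⟨a, b, hab⟩ : ∃ a b, S a b ≠ 0 := by
        by_contra h
        push Not at h
        exact hS0 (Matrix.ext h)
      have hne : a ≠ b := fun e => hab (e ▸ hd a)
      refine ⟨a, b, S a b, hne, hab, ?_⟩
      convert hS using 1
      ext x y
      rcases htwo a b x hne with rfl | rfl <;> rcases htwo _ _ y hne with rfl | rfl <;>
        simp [sym, hne, hne.symm, hd, hsymm]
  · obtain ⟨j, l, hjl⟩ : ∃ a b, S a b ≠ 0 := by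
      by_contra h
      push Not at h
      exact hS0 (Matrix.ext h)
    have hthird : ∀ x y : Fin m, ∃ z, z ≠ x ∧ z ≠ y := fun x y => by
      obtain ⟨z, -, hz⟩ := Finset.exists_mem_notMem_of_card_lt_card
        (s := {x, y}) (t := (Finset.univ : Finset (Fin m))) (by
          rw [Finset.card_univ, Fintype.card_fin]
          have := Finset.card_le_two (a := x) (b := y)
          omega)
      exact ⟨z, by simpa using hz⟩
    obtain ⟨i, hij, hil⟩ := hthird j l
    obtain ⟨k, hki, hkl⟩ := hthird i l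
    refine ⟨k, i, S j l, hki, hjl, ?_⟩
    convert step_mem T hT hkl (step_mem T hT hij hS) using 1
    ext a b
    rw [stepD_apply, stepD_apply, stepD_apply, stepD_apply]
    have h1 := hsymm l j
    by_cases hak : a = k <;> by_cases hbk : b = k <;> by_cases hai : a = i <;> by_cases hbi : b = i <;>
      simp_all [sym, Ne.symm]

theorem sym_mem (hij : ∃ (i k : Fin m) (c : F), i ≠ k ∧ c ≠ 0 ∧ sym i k c ∈ symPart T)
    {a b : Fin m} (hab : a ≠ b) (c : F) : sym a b c ∈ symPart T := by
  obtain ⟨i, k, c₀, hik, hc₀, h⟩ := hij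
  set σ : Equiv.Perm (Fin m) := (Equiv.swap a i).trans (Equiv.swap (Equiv.swap a i b) k)
  have hσb : σ b = k := by simp [σ]
  have hσa : σ a = i := by
    have h1 : Equiv.swap a i b ≠ i := fun e => hab (by
      have := congrArg (Equiv.swap a i) e; simpa using this.symm)
    simp [σ, Equiv.swap_apply_of_ne_of_ne h1.symm hik]
  have h1 := symPart_conj T hT (pG σ) h
  rw [pG_conj] at h1
  have h2 : sym a b c₀ ∈ symPart T := by
    convert h1 using 1
    ext x y
    simp [sym, Matrix.single_apply, ← hσa, ← hσb]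
  rcases eq_or_ne c 0 with rfl | hc
  · simp [sym]
  have h3 := symPart_conj T hT (dG fun x => if x = a then Units.mk0 _ (div_ne_zero hc hc₀) else 1) h2
  convert h3 using 1
  ext x y
  rw [dG_conj, Matrix.of_apply]
  by_cases hxa : x = a <;> by_cases hya : y = a <;> simp [sym, Matrix.single_apply, hxa, hya, hab,
    hab.symm, eq_comm (a := a)]
  all_goals (split_ifs <;> field_simp)

theorem lev_tG_mem (hsym : ∀ a b : Fin m, a ≠ b → ∀ c : F, sym a b c ∈ symPart T) {i j : Fin m}
    (hij : i < j) (c : F) : lev (tG hij.ne c) ∈ T := by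
  obtain ⟨hS, h⟩ := hsym i j hij.ne c
  have e : plane j rot * sieg _ hS * (plane j rot)⁻¹ = lev (tG hij.ne c) := by
    rw [mul_inv_eq_iff_eq_mul]
    refine Subtype.ext ?_
    rw [Submonoid.coe_mul, Submonoid.coe_mul, coe_plane, coe_sieg, coe_lev_tG, coe_rot,
      Matrix.fromBlocks_multiply, Matrix.fromBlocks_multiply, Matrix.fromBlocks_inj]
    have hne := hij.ne
    refine ⟨?_, ?_, ?_, ?_⟩ <;> ext a b <;>
      simp only [Matrix.mul_one, Matrix.mul_zero, add_zero, Matrix.zero_mul, zero_add, Matrix.add_apply,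
        Matrix.diagonal_mul, Matrix.mul_diagonal, Matrix.transpose_apply, Matrix.transvection,
        Matrix.one_apply, Matrix.single_apply, Matrix.diagonal_apply, sym, Matrix.cons_val',
        Matrix.of_apply, Matrix.cons_val_zero, Matrix.cons_val_one, Matrix.cons_val_fin_one] <;>
      simp only [eq_comm (a := i), eq_comm (a := j)] <;>
      by_cases ha : a = i <;> by_cases ha' : a = j <;> by_cases hb : b = i <;> by_cases hb' : b = j <;>
      first
      | exact absurd (ha.symm.trans ha') hne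
      | exact absurd (hb.symm.trans hb') hne
      | (simp [ha, ha', hb, hb', hne, hne.symm] <;> grind)
  rw [← e]
  exact hT _ _ h (by rw [e]; exact lev_tG_mem_U hij c)

theorem single_mem (hm : 2 ≤ m) (hsym : ∀ a b : Fin m, a ≠ b → ∀ c : F, sym a b c ∈ symPart T)
    (a : Fin m) (c : F) : Matrix.single a a c ∈ symPart T := by
  set i : Fin m := ⟨0, by omega⟩
  set j : Fin m := ⟨1, hm⟩
  have hij : i < j := by simp [i, j, Fin.lt_def]
  have hl := lev_tG_mem T hT hsym hij 1
  have hS : (Matrix.single j j c)ᵀ = Matrix.single j j c := Matrix.transpose_single ..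
  have hs : sieg _ hS ∈ (U : Subgroup Spm) := A_le_U (sieg_mem_A _ _)
  have hl' : sieg _ hS * (lev (tG hij.ne 1))⁻¹ * (sieg _ hS)⁻¹ ∈ T :=
    hT _ _ (inv_mem hl) (mul_mem (mul_mem hs (inv_mem (lev_tG_mem_U hij 1))) (inv_mem hs))
  have h1 := mul_mem hl hl'
  rw [← mul_assoc, ← mul_assoc, lev_sieg, sieg_neg, sieg_mul] at h1
  have h2 : stepD i j (Matrix.single j j c) ∈ symPart T := by
    refine ⟨?_, ?_⟩
    · rw [stepD, Matrix.transpose_sub, ← coe_tG hij.ne, conj_symm _ hS, hS]
    · have he : stepD i j (Matrix.single j j c) = ((tG hij.ne (1 : F) : GL (Fin m) F) : Mq) *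
          Matrix.single j j c * ((tG hij.ne (1 : F) : GL (Fin m) F) : Mq)ᵀ + -Matrix.single j j c := by
        rw [stepD, coe_tG, sub_eq_add_neg]
      rw [sieg_congr he]
      exact h1
  have h3 := sub_mem h2 (hsym i j hij.ne c)
  have h4 : Matrix.single i i c ∈ symPart T := by
    convert h3 using 1
    ext x y
    rw [Matrix.sub_apply, stepD_apply]
    by_cases hx : x = i <;> by_cases hy : y = i <;>
      simp_all [sym, Matrix.single_apply, hij.ne, hij.ne', eq_comm]
  have h5 := symPart_conj T hT (pG (Equiv.swap a i)) h4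
  rw [pG_conj] at h5
  convert h5 using 1
  ext x y
  have key : ∀ x, (i = Equiv.swap a i x) ↔ a = x := fun x => by
    rw [← (Equiv.swap a i).injective.eq_iff (a := a) (b := x), Equiv.swap_apply_left]
  simp [Matrix.single_apply, key]

theorem symmetric_mem (hm : 2 ≤ m) (hsym : ∀ a b : Fin m, a ≠ b → ∀ c : F, sym a b c ∈ symPart T)
    {S : Mq} (hS : Sᵀ = S) : S ∈ symPart T := by
  have e : S = (∑ a, Matrix.single a a (S a a)) +
      ∑ a, ∑ b, if a < b then sym a b (S a b) else 0 := by
    have hsymm : ∀ a b, S a b = S b a := fun a b => by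
      conv_lhs => rw [← hS]
      rfl
    ext x y
    simp only [Matrix.add_apply, Matrix.sum_apply]
    rcases lt_trichotomy x y with h | rfl | h
    · rw [Finset.sum_eq_zero (fun a _ => by rw [Matrix.single_apply, if_neg (by rintro ⟨rfl, rfl⟩; exact lt_irrefl _ h)]),
        zero_add, Finset.sum_eq_single x, Finset.sum_eq_single y]
      · simp [h, sym, h.ne, h.ne']
      · intro b _ hb
        split_ifs with hxb
        · simp [sym, Matrix.single_apply, hb, hxb.ne', h.ne]
        · rfl
      · simp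
      · intro a _ ha
        refine Finset.sum_eq_zero fun b _ => ?_
        split_ifs with hab
        · simp [sym, Matrix.single_apply, ha]
          rintro rfl rfl
          exact absurd hab h.not_gt
        · rfl
      · simp
    · rw [Finset.sum_eq_single x, Finset.sum_eq_zero]
      · simp
      · intro a _
        refine Finset.sum_eq_zero fun b _ => ?_
        split_ifs with hab
        · rw [sym, Matrix.add_apply, Matrix.single_apply, Matrix.single_apply, if_neg, if_neg, add_zero] <;>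
            (rintro ⟨rfl, rfl⟩; exact lt_irrefl _ hab)
        · rfl
      · intro a _ ha; simp [ha]
      · simp
    · rw [Finset.sum_eq_zero (fun a _ => by rw [Matrix.single_apply, if_neg (by rintro ⟨rfl, rfl⟩; exact lt_irrefl _ h)]),
        zero_add, Finset.sum_eq_single y, Finset.sum_eq_single x]
      · simp [h, sym, h.ne, h.ne', hsymm x y]
      · intro b _ hb
        split_ifs with hxb
        · simp [sym, Matrix.single_apply, hb, hxb.ne', h.ne]
        · rfl
      · simp
      · intro a _ ha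
        refine Finset.sum_eq_zero fun b _ => ?_
        split_ifs with hab
        · simp [sym, Matrix.single_apply, ha]
          rintro rfl rfl
          exact absurd hab h.not_gt
        · rfl
      · simp
  rw [e]
  refine add_mem (sum_mem fun a _ => single_mem T hT hm hsym a _)
    (sum_mem fun a _ => sum_mem fun b _ => ?_)
  split_ifs with h
  · exact hsym a b h.ne _
  · exact zero_mem _

omit [Finite F] hT in
/-- A subgroup with all upper transvections has all upper unitriangular matrices. -/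
theorem uni_mem (H : Subgroup (GL (Fin m) F))
    (hH : ∀ (i j : Fin m) (h : i < j) (c : F), tG h.ne c ∈ H) :
    ∀ (n : ℕ) (g : GL (Fin m) F), (∀ a b : Fin m, b ≤ a → (g : Mq) a b = if a = b then 1 else 0) →
      Nat.card {x : Fin m × Fin m // x.1 ≠ x.2 ∧ (g : Mq) x.1 x.2 ≠ 0} = n → g ∈ H := by
  classical
  intro n
  induction n using Nat.strong_induction_on with
  | _ n ih =>
    intro g hg hn
    by_cases hone : ∀ a b, a ≠ b → (g : Mq) a b = 0
    · have : g = 1 := Units.ext (Matrix.ext fun a b => by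
        rcases eq_or_ne a b with rfl | h
        · simp [hg a a le_rfl]
        · simp [hone a b h, h])
      rw [this]; exact one_mem _
    push Not at hone
    obtain ⟨a₀, b₀, hab₀, hg₀⟩ := hone
    obtain ⟨⟨i, j⟩, hij, hmax⟩ := Finset.exists_max_image
      (Finset.univ.filter fun x : Fin m × Fin m => x.1 ≠ x.2 ∧ (g : Mq) x.1 x.2 ≠ 0) Prod.fst
      ⟨(a₀, b₀), by simp [hab₀, hg₀]⟩
    simp only [Finset.mem_filter, Finset.mem_univ, true_and] at hij hmax
    obtain ⟨hne, hgij⟩ := hij
    have hlt : i < j := by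
      by_contra h
      rw [hg i j (not_lt.1 h), if_neg hne] at hgij
      exact hgij rfl
    have hrow : ∀ b, (g : Mq) j b = if j = b then 1 else 0 := by
      intro b
      rcases eq_or_ne j b with rfl | h
      · exact hg j j le_rfl
      · rw [if_neg h]
        by_contra hb
        exact absurd (hmax (j, b) ⟨h, hb⟩) (not_le.2 hlt)
    set g' := tG hlt.ne (-(g : Mq) i j) * g with hg'
    have he : ∀ a b, (g' : Mq) a b = if a = i ∧ b = j then 0 else (g : Mq) a b := by
      intro a b
      rw [hg', Units.val_mul, coe_tG]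
      by_cases ha : a = i
      · subst ha
        rw [Matrix.transvection_mul_apply_same, hrow]
        rcases eq_or_ne j b with rfl | h
        · simp
        · simp [h, Ne.symm h]
      · simp [ha]
    have hmem : g' ∈ H := by
      refine ih _ ?_ g' (fun a b hab => ?_) rfl
      · rw [← hn]
        rw [Nat.card_eq_fintype_card, Nat.card_eq_fintype_card]
        refine Fintype.card_lt_of_injective_of_notMem
          (fun x => ⟨x.1, x.2.1, fun h0 => x.2.2 (by rw [he]; split_ifs <;> simp [h0])⟩)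
          (fun x y h => Subtype.ext (congrArg (fun z => z.1) h)) (b := ⟨(i, j), hne, hgij⟩) ?_
        rintro ⟨⟨x, hx1, hx2⟩, hx⟩
        have hx' : x = (i, j) := congrArg (fun z => z.1) hx
        subst hx'
        exact hx2 (by rw [he, if_pos ⟨rfl, rfl⟩])
      · rw [he, if_neg]
        · exact hg a b hab
        · rintro ⟨rfl, rfl⟩; exact absurd hab (not_le.2 hlt)
    have := mul_mem (inv_mem (hH i j hlt (-(g : Mq) i j))) hmem
    rwa [hg', inv_mul_cancel_left] at this

include hTU in
theorem symPart_ne_bot (hm : 2 ≤ m) (p : ℕ) [Fact p.Prime] [CharP F p] (hT1 : T ≠ ⊥)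
    (hp : ¬ p ∣ Nat.card (Subgroup.center Spm)) :
    ∃ S ∈ symPart T, S ≠ 0 := by
  have key : ∀ t ∈ T, t ≠ 1 → t ∈ A → ∃ S ∈ symPart T, S ≠ 0 := by
    intro t ht ht1 htA
    obtain ⟨S, hS, rfl⟩ := mem_A_iff.1 htA
    exact ⟨S, ⟨hS, ht⟩, fun h0 => ht1 (by rw [sieg_congr h0 _ Matrix.transpose_zero, sieg_zero])⟩
  obtain ⟨t, ht, ht1⟩ := (Subgroup.bot_or_exists_ne_one T).resolve_left hT1
  by_cases hc : ∀ r ∈ A, Commute t r
  · obtain ⟨z, hz, r, hr, rfl⟩ := centralizer_A (by omega) hc
    haveI : Nonempty ℓ := ⟨Sum.inl ⟨0, by omega⟩⟩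
    have hzU : z ∈ (U : Subgroup Spm) := by
      have := mul_mem (hTU ht) (inv_mem (A_le_U hr))
      rwa [mul_inv_cancel_right] at this
    obtain ⟨k, hk⟩ := Quotient.exists_pow_of_mem (isPGroup_uniR p (rk m)) hzU
    rw [Quotient.eq_one_of_pow hp hz hk, one_mul] at ht ht1
    exact key _ ht ht1 hr
  · push Not at hc
    obtain ⟨r, hr, hne⟩ := hc
    have h1 : r * t * r⁻¹ ∈ T :=
      hT _ _ ht (mul_mem (mul_mem (A_le_U hr) (hTU ht)) (inv_mem (A_le_U hr)))
    refine key (r * t * r⁻¹ * t⁻¹) (mul_mem h1 (inv_mem ht)) (fun e => hne ?_) ?_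
    · rw [mul_inv_eq_one, mul_inv_eq_iff_eq_mul] at e
      exact e.symm
    · rw [show r * t * r⁻¹ * t⁻¹ = r * (t * r⁻¹ * t⁻¹) by group]
      exact mul_mem hr (U_conj_A (hTU ht) (inv_mem hr))

include hTU in
theorem U_le (hm : 2 ≤ m) (hq : m = 2 → ∃ y : F, y ≠ 0 ∧ y ≠ 1) (p : ℕ) [Fact p.Prime] [CharP F p]
    (hT1 : T ≠ ⊥) (hp : ¬ p ∣ Nat.card (Subgroup.center Spm)) : (U : Subgroup Spm) ≤ T := by
  obtain ⟨S, hS, hS0⟩ := symPart_ne_bot T hTU hT hm p hT1 hp
  have hsym : ∀ a b : Fin m, a ≠ b → ∀ c : F, sym a b c ∈ symPart T := fun a b hab c =>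
    sym_mem T hT (exists_sym T hT hm hq hS hS0) hab c
  intro u hu
  have hblock : ∀ v w : Spm, w ∈ (U : Subgroup Spm) →
      (v : Mm).toBlocks₁₁ * (w : Mm).toBlocks₁₁ = ((v * w : Spm) : Mm).toBlocks₁₁ := by
    intro v w hw
    ext i j
    simp [Matrix.toBlocks₁₁, Matrix.mul_apply, Fintype.sum_sum_type, U_inl_block hw]
  have hone : ((1 : Spm) : Mm).toBlocks₁₁ = 1 := by
    ext i j; simp [Matrix.toBlocks₁₁, Matrix.one_apply]
  let g : GL (Fin m) F := ⟨(u : Mm).toBlocks₁₁, ((u⁻¹ : Spm) : Mm).toBlocks₁₁,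
    by rw [hblock _ _ (inv_mem hu), mul_inv_cancel, hone],
    by rw [hblock _ _ hu, inv_mul_cancel, hone]⟩
  have hg : lev g ∈ T := by
    refine uni_mem (T.comap lev) (fun i j h c => lev_tG_mem T hT hsym h c) _ g ?_ rfl
    intro a b hab
    have := (upper_iff u).1 (mem_U.1 hu) (Sum.inl a) (Sum.inl b) (by simpa [rk] using hab)
    simpa [g, Matrix.toBlocks₁₁] using this
  have hA : (lev g)⁻¹ * u ∈ A := by
    intro a j
    rw [← map_inv, Submonoid.coe_mul, coe_lev,
      show ((g⁻¹ : GL (Fin m) F) : Mq) = ((u⁻¹ : Spm) : Mm).toBlocks₁₁ from rfl]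
    rcases a with a | a
    · have := congrFun (congrFun (hblock u⁻¹ u hu) a) j
      rw [inv_mul_cancel, hone] at this
      simp [Matrix.mul_apply, Fintype.sum_sum_type, U_inl_block hu]
      simpa [Matrix.mul_apply, Matrix.toBlocks₁₁, Matrix.one_apply, g] using this
    · simp [Matrix.mul_apply, Fintype.sum_sum_type, U_inl_block hu]
  obtain ⟨S', hS', he⟩ := mem_A_iff.1 hA
  obtain ⟨h1, h2⟩ := symmetric_mem T hT hm hsym hS'
  rw [← mul_inv_cancel_left (lev g) u, he]
  exact mul_mem hg h2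

omit hT
omit T

/-- The fusion system of `PSp` in the defining characteristic is simple. -/
theorem isSimple_psp (hm : 2 ≤ m) (hq : m = 2 → ∃ y : F, y ≠ 0 ∧ y ≠ 1) (p : ℕ) [Fact p.Prime]
    [CharP F p] (S : Sylow p (Cfsg.PSp m F)) :
    (Cfsg.groupFusionSystem (S : Subgroup (Cfsg.PSp m F))).IsSimple p := by
  haveI : Nonempty ℓ := ⟨Sum.inl ⟨0, by omega⟩⟩
  set o : Fin m := ⟨0, by omega⟩
  set e : Fin m := ⟨1, hm⟩
  have hoe : o ≠ e := by simp [o, e]
  have hzsq : ∀ z ∈ Subgroup.center Spm, z ^ 2 = 1 := fun z hz => Subtype.ext (by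
    rcases mem_center_sp_iff.1 hz with h | h <;> simp [h])
  have hp : ¬ p ∣ Nat.card (Subgroup.center Spm) := by
    intro hd
    obtain ⟨z, hz⟩ := exists_prime_orderOf_dvd_card' p hd
    have h2 : z ^ 2 = 1 := Subtype.ext (hzsq z z.2)
    have hp2 : p = 2 := (Nat.prime_dvd_prime_iff_eq Fact.out Nat.prime_two).1
      (hz ▸ orderOf_dvd_of_pow_eq_one h2)
    subst hp2
    have : z = 1 := Subtype.ext (Subtype.ext (by
      rcases mem_center_sp_iff.1 z.2 with h | h
      · exact h
      · exact h.trans (CharTwo.neg_eq _)))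
    rw [this, orderOf_one] at hz
    omega
  refine Quotient.isSimple_quotient (G := Spm) (U := U) le_rfl hp (isPGroup_uniR p (rk m)) ?_ ?_ ?_
    (fun T hTU hT1 hT => U_le T hTU hT hm hq p hT1 hp) S
  · intro h
    have h1 : sieg (Matrix.single o o (1 : F)) (Matrix.transpose_single ..) ∈ (U : Subgroup Spm) :=
      A_le_U (sieg_mem_A _ _)
    rw [h, Subgroup.mem_bot] at h1
    have := congrFun (congrFun (congrArg (fun s : Spm => (s : Mm)) h1) (Sum.inl o)) (Sum.inr o)
    simp [coe_sieg] at this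
  · rintro g hg ⟨k, hk⟩
    exact mem_U_of_tri_pow p (tri_of_normalizes hg) hk
  · intro g hg
    obtain ⟨a, hu⟩ := exists_torus (tri_of_normalizes hg)
    rw [← mul_inv_cancel_left (lev (dG a)) g]
    refine mul_mem ?_ (Subgroup.subset_closure ⟨fun u h => mul_mem (mul_mem hu h) (inv_mem hu), A,
      A_le_U, fun s hs => centralizer_A (by omega) hs, Subgroup.subset_closure
        ⟨fun r hr => U_conj_A hu hr, Quotient.exists_pow_of_mem (isPGroup_uniR p (rk m)) hu⟩⟩)
    set P : Fˣ := ∏ i, a i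
    set a' : Fin m → Fˣ := fun i => if i = e then a i * P⁻¹ else a i with ha'
    have hdet : (Matrix.diagonal fun i => (a' i : F)).det = 1 := by
      rw [Matrix.det_diagonal, ← Units.coe_prod, ← Units.val_one]
      congr 1
      rw [Finset.prod_eq_mul_prod_sdiff_singleton_of_mem (Finset.mem_univ e), ha']
      rw [Finset.prod_congr rfl (g := a) fun x hx => if_neg (by simpa using hx)]
      simp only [if_true, P]
      rw [Finset.prod_eq_mul_prod_sdiff_singleton_of_mem (Finset.mem_univ e) (f := a), mul_right_comm,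
        mul_inv_cancel]
    set s₁ : Matrix.SpecialLinearGroup (Fin m) F := ⟨_, hdet⟩
    set s₂ : Matrix.SpecialLinearGroup (Fin 2) F :=
      ⟨Matrix.diagonal ![(P : F), ((P⁻¹ : Fˣ) : F)], by simp [Fin.prod_univ_two]⟩
    have e1 : Matrix.SpecialLinearGroup.toGL s₁ = dG a' := Units.ext rfl
    have hpl : ((plane e s₂ : Spm) : Mm) = Matrix.diagonal
        (Sum.elim (fun i => if i = e then (P : F) else 1) fun i => if i = e then ((P⁻¹ : Fˣ) : F) else 1) := by
      rw [coe_plane, ← Matrix.fromBlocks_diagonal]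
      simp [s₂]
    have e2 : lev (dG a) = lev (dG a') * plane e s₂ := Subtype.ext (by
      rw [Submonoid.coe_mul, hpl, coe_lev_dG, coe_lev_dG, Matrix.diagonal_mul_diagonal]
      congr 1
      funext x
      rcases x with x | x <;> by_cases hx : x = e <;> simp [ha', hx, mul_assoc]
      rw [mul_left_comm, mul_inv_cancel₀ P.ne_zero, mul_one])
    rw [e2]
    refine mul_mem (Subgroup.subset_closure ⟨fun u h => conj_mem_U_of_diag (coe_lev_dG a') h, A,
      A_le_U, fun s hs => centralizer_A (by omega) hs, ?_⟩)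
      (Subgroup.subset_closure ⟨fun u h => conj_mem_U_of_diag hpl h, Q o, Q_le_U rfl,
        fun s hs => centralizer_Q o hs, ?_⟩)
    · rw [← e1]
      exact sl_mem_closure p (lev.comp Matrix.SpecialLinearGroup.toGL) A
        (fun s r hr => lev_conj_A _ hr) s₁
    · exact sl_mem_closure p (plane e) (Q o)
        (fun s r hr => conj_mem_Q one_ne_zero (plane_mulVec_other hoe s) hr) s₂

end Cfsg.Agent.Lib.FusionClassical.Symplectic
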