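import Cfsg.Agent.Lib.FusionClassical.Quotient
import Cfsg.Agent.Lib.AutPSU.Sylow
import Cfsg.Agent.Lib.AutPSU.Torus
import Cfsg.Agent.Lib.Unitary.Generation

/-!
# Unipotent subgroups and generation of special unitary groups

Every `p`-subgroup of `SU n` over a field of characteristic `p` lies in a `p`-subgroup generated by
its Eichler elements; the stabiliser of an isotropic vector is generated by `p`-elements.
-/

set_option autoImplicit false
set_option linter.unusedSectionVars false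

namespace Cfsg.Agent.Lib.FusionClassical.UnitaryGen

open Matrix Module Cfsg.Agent.Lib.Unitary Cfsg.Agent.Lib.AutPSU

variable {F : Type*} [Field F] [Fintype F] {q : ℕ} {n : ℕ} (p : ℕ) [Fact p.Prime] [CharP F p]

/-- Elements fixing the orthogonal of `W` pointwise. -/
def fixPerp (W : Submodule F (Fin n → F)) : Subgroup (SU n F q) where
  carrier := {X | ∀ x ∈ perp q W, X.1.1 *ᵥ x = x}
  one_mem' := fun x _ => by simp
  mul_mem' := fun {X Y} hX hY x hx => by rw [SU_mul_mulVec, hY x hx, hX x hx]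
  inv_mem' := fun {X} hX x hx => by conv_lhs => rw [← hX x hx, SU_inv_mulVec]

theorem fixPerp_mono {W W' : Submodule F (Fin n → F)} (h : W' ≤ W) :
    fixPerp (q := q) W' ≤ fixPerp W := fun _ hX x hx => hX x fun w hw => hx w (h hw)

theorem mulVec_mem_of_fixPerp (hF : Fintype.card F = q ^ 2) {W : Submodule F (Fin n → F)}
    {X : SU n F q} (hX : X ∈ fixPerp W) {x : Fin n → F} (hx : x ∈ W) : X.1.1 *ᵥ x ∈ W := by
  rw [← perp_perp hF W] at hx ⊢
  intro y hy
  rw [← hX y hy, SU_herm]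
  exact hx y hy

/-- A nonzero vector of `W` fixed and isotropic, unless `W` is fixed pointwise. -/
theorem exists_null_fixed (hF : Fintype.card F = q ^ 2) {W : Submodule F (Fin n → F)}
    {P : Subgroup (SU n F q)} (hP : IsPGroup p P) (hPW : P ≤ fixPerp W)
    (hne : ∃ X ∈ P, ∃ x ∈ W, X.1.1 *ᵥ x ≠ x) :
    ∃ e ∈ W, IsoVec q e ∧ ∀ X ∈ P, X.1.1 *ᵥ e = e := by
  classical
  let W₁ : Submodule F (Fin n → F) :=
    { carrier := {x | x ∈ W ∧ ∀ X ∈ P, X.1.1 *ᵥ x = x}
      zero_mem' := ⟨W.zero_mem, fun X _ => Matrix.mulVec_zero _⟩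
      add_mem' := fun {a b} ha hb => ⟨W.add_mem ha.1 hb.1, fun X hX => by
        rw [Matrix.mulVec_add, ha.2 X hX, hb.2 X hX]⟩
      smul_mem' := fun c a ha => ⟨W.smul_mem c ha.1, fun X hX => by
        rw [Matrix.mulVec_smul, ha.2 X hX]⟩ }
  have hlt : W₁ < W := by
    refine lt_of_le_of_ne (fun x hx => hx.1) fun h => ?_
    obtain ⟨X, hX, x, hx, hxne⟩ := hne
    rw [← h] at hx
    exact hxne (hx.2 X hX)
  set C := W ⊓ perp q W₁ with hC
  have hCne : C ≠ ⊥ := by
    intro h0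
    have h1 := Submodule.finrank_sup_add_finrank_inf_eq W (perp q W₁)
    rw [← hC, h0, finrank_bot] at h1
    have h5 := finrank_perp hF W₁
    have h2 := Submodule.finrank_le (W ⊔ perp q W₁)
    rw [finrank_fin_fun] at h2
    have h3 := Submodule.finrank_lt_finrank_of_lt hlt
    have h4 := Submodule.finrank_le W₁
    rw [finrank_fin_fun] at h4
    omega
  have hCP : ∀ X ∈ P, ∀ x ∈ C, X.1.1 *ᵥ x ∈ C := fun X hX x hx =>
    ⟨mulVec_mem_of_fixPerp hF (hPW hX) hx.1, fun w hw => by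
      conv_lhs => rw [← hw.2 X hX]
      rw [SU_herm]; exact hx.2 w hw⟩
  letI : MulAction P C :=
    { smul := fun X x => ⟨X.1.1.1 *ᵥ x.1, hCP X X.2 x x.2⟩
      one_smul := fun x => Subtype.ext (by
        show (1 : SU n F q).1.1 *ᵥ x.1 = x.1
        simp)
      mul_smul := fun X Y x => Subtype.ext (SU_mul_mulVec X.1 Y.1 x.1) }
  have h0 : (0 : C) ∈ MulAction.fixedPoints P C := fun X => Subtype.ext (show X.1.1.1 *ᵥ (0 : Fin n → F) = 0 from Matrix.mulVec_zero _)
  have hdvd : p ∣ Nat.card C := by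
    obtain ⟨x, hx, hx0⟩ := Submodule.exists_mem_ne_zero_of_ne_bot hCne
    have h : addOrderOf (⟨x, hx⟩ : C) = p := by
      refine addOrderOf_eq_prime ?_ fun h => hx0 (congrArg Subtype.val h)
      rw [← Nat.cast_smul_eq_nsmul F, CharP.cast_eq_zero, zero_smul]
    rw [← h]
    exact addOrderOf_dvd_natCard _
  obtain ⟨v, hv, hv0⟩ := hP.exists_fixed_point_of_prime_dvd_card_of_fixed_point C hdvd h0
  have hv1 : v.1 ∈ W₁ := ⟨v.2.1, fun X hX => congrArg Subtype.val (hv ⟨X, hX⟩)⟩
  exact ⟨v.1, v.2.1, ⟨fun h => hv0 (Subtype.ext h.symm), v.2.2 v.1 hv1⟩, hv1.2⟩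

theorem exists_partner_in (hF : Fintype.card F = q ^ 2) {W : Submodule F (Fin n → F)}
    (hW : Nondeg q W) {e : Fin n → F} (he : e ∈ W) (hiso : IsoVec q e) :
    ∃ f ∈ W, Hyp q e f := by
  obtain ⟨w, hw, hew⟩ : ∃ w ∈ W, hermForm n F q e w ≠ 0 := by
    by_contra h
    push Not at h
    exact hiso.1 (hW e he h)
  set x := ((hermForm n F q e w)⁻¹) ^ q • w
  have hex : hermForm n F q e x = 1 := by
    rw [herm_smul_right, pow_q_q hF, inv_mul_cancel₀ hew]
  obtain ⟨a, ha⟩ := exists_isotropic_shift hF hiso.2 (x := x) (by rw [hex]; exact one_ne_zero)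
  refine ⟨x + a • e, W.add_mem (W.smul_mem _ hw) (W.smul_mem _ he), hiso.2, ha, ?_⟩
  rw [herm_add_right _ _ _ hF, herm_smul_right e e, hiso.2, mul_zero, add_zero, hex]

theorem mem_inter_pair (hF : Fintype.card F = q ^ 2) {W : Submodule F (Fin n → F)}
    {e f x : Fin n → F} :
    x ∈ W ⊓ perp q (Submodule.span F {e, f}) ↔
      x ∈ W ∧ hermForm n F q x e = 0 ∧ hermForm n F q x f = 0 := by
  simp [Submodule.mem_inf, mem_perp_span hF]

theorem decomp_mem (hF : Fintype.card F = q ^ 2) {W : Submodule F (Fin n → F)}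
    {e f : Fin n → F} (h : Hyp q e f) (he : e ∈ W) (hf : f ∈ W) {w : Fin n → F} (hw : w ∈ W) :
    w - hermForm n F q w f • e - hermForm n F q w e • f ∈ W ⊓ perp q (Submodule.span F {e, f}) :=
  (mem_inter_pair hF).2 ⟨W.sub_mem (W.sub_mem hw (W.smul_mem _ he)) (W.smul_mem _ hf),
    h.rest_perp hF w⟩

theorem nondeg_inter_pair (hF : Fintype.card F = q ^ 2) {W : Submodule F (Fin n → F)}
    (hW : Nondeg q W) {e f : Fin n → F} (h : Hyp q e f) (he : e ∈ W) (hf : f ∈ W) :
    Nondeg q (W ⊓ perp q (Submodule.span F {e, f})) := by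
  intro u hu hv
  obtain ⟨huW, hue, huf⟩ := (mem_inter_pair hF).1 hu
  refine hW u huW fun w hw => ?_
  have h1 := hv _ (decomp_mem hF h he hf hw)
  simpa [herm_sub_right _ _ _ hF, herm_smul_right, hue, huf] using h1

theorem conj_QS_fix {e : Fin n → F} {W : Submodule F (Fin n → F)} {X T : SU n F q}
    (hXe : X.1.1 *ᵥ e = e) (hXW : X ∈ fixPerp W) (hT : T ∈ QS e ⊓ fixPerp W) :
    X * T * X⁻¹ ∈ QS e ⊓ fixPerp W :=
  ⟨NS_conj_QS (PS_le_NS e hXe) hT.1,
    (fixPerp W).mul_mem ((fixPerp W).mul_mem hXW hT.2) ((fixPerp W).inv_mem hXW)⟩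

/-- The Eichler part of an element fixing `e`. -/
theorem exists_QS_match (hF : Fintype.card F = q ^ 2) {W : Submodule F (Fin n → F)}
    {e f : Fin n → F} (h : Hyp q e f) (he : e ∈ W) (hf : f ∈ W) {X : SU n F q}
    (hXe : X.1.1 *ᵥ e = e) (hXW : X ∈ fixPerp W) :
    ∃ X₀ ∈ QS e ⊓ fixPerp W, (X₀⁻¹ * X) ∈ fixPerp (W ⊓ perp q (Submodule.span F {e, f})) := by
  set d := hermForm n F q (X.1.1 *ᵥ f) f
  set z := X.1.1 *ᵥ f - f - d • e
  have hXf : X.1.1 *ᵥ f = f + z + d • e := by simp only [z]; abel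
  have hze : hermForm n F q z e = 0 := by
    have h1 := SU_herm X f e
    rw [hXe] at h1
    simp [z, herm_sub_left, herm_smul_left, h.1, h1]
  have hzf : hermForm n F q z f = 0 := by
    simp [z, herm_sub_left, herm_smul_left, h.2.1, h.2.2, d]
  have hzW : z ∈ W :=
    W.sub_mem (W.sub_mem (mulVec_mem_of_fixPerp hF hXW hf) hf) (W.smul_mem _ he)
  have hd : d + d ^ q + hermForm n F q z z = 0 := by
    have h1 := SU_herm X f f
    rw [hXf, h.2.1] at h1
    simp only [herm_add_left, herm_add_right _ _ _ hF, herm_smul_left, herm_smul_right, h.1,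
      h.2.1, h.2.2, h.symm' hF, hze, hzf, herm_eq_zero_symm hF hze, herm_eq_zero_symm hF hzf,
      mul_zero, mul_one, zero_add, add_zero] at h1
    linear_combination h1
  obtain ⟨X₀, hX₀⟩ := exists_SU_eich hF h.1 hze hd
  have hQ : X₀ ∈ QS e := mem_QS_of_eich hF h.1 hze hX₀
  have hW0 : X₀ ∈ fixPerp W := fun x hx => by
    have := hX₀ x
    rw [suToGU_val, hx e he, hx z hzW] at this
    simpa using this
  have hX₀f : X₀.1.1 *ᵥ f = X.1.1 *ᵥ f := by
    have := hX₀ f
    rw [suToGU_val, h.symm' hF, herm_eq_zero_symm hF hzf] at this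
    rw [this, hXf]; simp
  refine ⟨X₀, ⟨hQ, hW0⟩, fun x hx => ?_⟩
  have hYe : (X₀⁻¹ * X).1.1 *ᵥ e = e := by
    rw [SU_mul_mulVec, hXe]
    conv_lhs => rw [← hQ.1, SU_inv_mulVec]
  have hYf : (X₀⁻¹ * X).1.1 *ᵥ f = f := by rw [SU_mul_mulVec, ← hX₀f, SU_inv_mulVec]
  obtain ⟨r1, r2⟩ := h.rest_perp hF x
  have hx' : x - hermForm n F q x f • e - hermForm n F q x e • f ∈ perp q W := by
    intro w hw
    have h1 := hx _ (decomp_mem hF h he hf hw)
    rw [herm_sub_right _ _ _ hF, herm_sub_right _ _ _ hF, herm_smul_right, herm_smul_right] at h1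
    rw [herm_sub_left, herm_sub_left, herm_smul_left, herm_smul_left, ← herm_conj w f hF,
      ← herm_conj w e hF] at *
    linear_combination h1
  have hY := (mul_mem (inv_mem hW0) hXW) _ hx'
  rw [Matrix.mulVec_sub, Matrix.mulVec_sub, Matrix.mulVec_smul, Matrix.mulVec_smul, hYe, hYf,
    sub_left_inj, sub_left_inj] at hY
  exact hY

/-- Every `p`-subgroup lies in one generated by Eichler elements. -/
theorem exists_pGroup_eich (hF : Fintype.card F = q ^ 2) :
    ∀ (k : ℕ) (W : Submodule F (Fin n → F)), finrank F W = k → Nondeg q W →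
      ∀ P : Subgroup (SU n F q), IsPGroup p P → P ≤ fixPerp W →
      ∃ P' : Subgroup (SU n F q), IsPGroup p P' ∧ P ≤ P' ∧ P' ≤ fixPerp W ∧
        P' ≤ Subgroup.closure {X : SU n F q | X ∈ P' ∧ ∃ e, IsoVec q e ∧ X ∈ QS e} := by
  intro k
  induction k using Nat.strong_induction_on with
  | _ k ih =>
    intro W hk hW P hP hPW
    by_cases hne : ∃ X ∈ P, ∃ x ∈ W, X.1.1 *ᵥ x ≠ x
    swap
    · push Not at hne
      have hP1 : P = ⊥ := (Subgroup.eq_bot_iff_forall _).2 fun X hX => SU_ext fun v => by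
        obtain ⟨w, hw, y, hy, rfl⟩ := Submodule.mem_sup.1
          ((isCompl_perp hF hW).sup_eq_top.symm ▸ Submodule.mem_top : v ∈ W ⊔ perp q W)
        simp [Matrix.mulVec_add, hne X hX w hw, hPW hX y hy]
      exact ⟨⊥, IsPGroup.of_bot, hP1.le, bot_le, bot_le⟩
    obtain ⟨e, he, hiso, hfix⟩ := exists_null_fixed p hF hP hPW hne
    obtain ⟨f, hf, h⟩ := exists_partner_in hF hW he hiso
    set W' := W ⊓ perp q (Submodule.span F {e, f}) with hW'
    set Q := QS (q := q) e ⊓ fixPerp W with hQ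
    have hQp : IsPGroup p Q := (isPGroup_QS p hF h).to_le inf_le_left
    have hnorm : ∀ X : SU n F q, X.1.1 *ᵥ e = e → X ∈ fixPerp W →
        X ∈ Subgroup.normalizer (Q : Set (SU n F q)) := fun X hXe hXW =>
      Agent.Lib.FS.mem_normalizer_of_conj_mem fun T hT => conj_QS_fix hXe hXW hT
    have hPQ : IsPGroup p (P ⊔ Q : Subgroup (SU n F q)) :=
      hP.to_sup_of_normal_right' hQp fun X hX => hnorm X (hfix X hX) (hPW hX)
    have hlt : finrank F W' < k := by
      rw [← hk]
      refine Submodule.finrank_lt_finrank_of_lt (lt_of_le_of_ne inf_le_left fun h' => ?_)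
      have h1 := ((mem_inter_pair hF).1 (show e ∈ W' by rw [h']; exact he)).2.2
      rw [h.2.2] at h1
      exact one_ne_zero h1
    obtain ⟨P', hP'p, hPP', hP'W, hP'c⟩ := ih _ hlt W' rfl (nondeg_inter_pair hF hW h he hf)
      ((P ⊔ Q) ⊓ fixPerp W') (hPQ.to_le inf_le_left) inf_le_right
    have hP'e : ∀ X ∈ P', X.1.1 *ᵥ e = e := fun X hX => hP'W hX e fun w hw => by
      exact herm_eq_zero_symm hF ((mem_inter_pair hF).1 hw).2.1
    refine ⟨P' ⊔ Q, hP'p.to_sup_of_normal_right' hQp fun X hX =>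
      hnorm X (hP'e X hX) (fixPerp_mono inf_le_left (hP'W hX)), fun X hX => ?_,
      sup_le (hP'W.trans (fixPerp_mono inf_le_left)) inf_le_right, ?_⟩
    · obtain ⟨X₀, hX₀, hY⟩ := exists_QS_match hF h he hf (hfix X hX) (hPW hX)
      rw [show X = X₀ * (X₀⁻¹ * X) by group]
      exact mul_mem (Subgroup.mem_sup_right hX₀) (Subgroup.mem_sup_left (hPP'
        ⟨(P ⊔ Q).mul_mem ((P ⊔ Q).inv_mem (Subgroup.mem_sup_right hX₀)) (Subgroup.mem_sup_left hX), hY⟩))
    · refine sup_le (hP'c.trans (Subgroup.closure_mono ?_)) fun X hX =>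
        Subgroup.subset_closure ⟨Subgroup.mem_sup_right hX, e, hiso, hX.1⟩
      rintro X ⟨hX, hE⟩
      exact ⟨Subgroup.mem_sup_left hX, hE⟩

/-- A Sylow subgroup is generated by its Eichler elements. -/
theorem sylow_le_closure_eich (hF : Fintype.card F = q ^ 2) (U : Sylow p (SU n F q)) :
    (U : Subgroup (SU n F q)) ≤ Subgroup.closure
      {X : SU n F q | X ∈ (U : Subgroup (SU n F q)) ∧ ∃ e, IsoVec q e ∧ X ∈ QS e} := by
  obtain ⟨P', h1, h2, -, h4⟩ := exists_pGroup_eich p hF _ ⊤ rfl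
    (nondeg_top fun u hu => herm_nondeg_left hF hu) (U : Subgroup (SU n F q)) U.isPGroup'
    (fun X _ x hx => by
      rw [herm_nondeg_left hF fun v => hx v trivial]; simp)
  have e := U.is_maximal' h1 h2
  subst e
  exact h4

/-! ### Generation by `p`-elements -/

/-- The elements of `p`-power order. -/
def pSet (G : Type*) [Group G] : Set G := {Y | ∃ k : ℕ, Y ^ p ^ k = 1}

theorem tv_pow_p (hF : Fintype.card F = q ^ 2) {v : Fin n → F} {c : F} {A : GU n F q}
    (hv : hermForm n F q v v = 0) (hA : IsTvAt v c A) : A ^ p = 1 := by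
  obtain ⟨d', hd', h0⟩ := eich_pow hF hv (herm_zero_left v) (hA.eich hF) p
  rw [h0 rfl, CharP.cast_eq_zero, zero_smul, zero_mul] at hd'
  exact GU_ext fun x => by rw [hd' x, herm_zero_right x hF]; simp

theorem TGroup_le_map (hF : Fintype.card F = q ^ 2) :
    TGroup F q n ≤ (Subgroup.closure (pSet p (SU n F q))).map (suToGU n F q) := by
  refine (Subgroup.closure_le _).2 fun A hA => ?_
  obtain ⟨X, hX⟩ : A ∈ (suToGU n F q).range := by
    rw [suToGU_range, MonoidHom.mem_ker]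
    exact Units.ext (by rw [detGU_val, hA.det hF]; rfl)
  obtain ⟨v, c, hv, -, hA'⟩ := hA
  exact ⟨X, Subgroup.subset_closure ⟨1, suToGU_injective (by
    rw [map_pow, map_one, hX, pow_one, tv_pow_p p hF hv hA'])⟩, hX⟩

/-- The columns of a frame, and the coordinates on it. -/
def colM (B : UFrame n F q) : Matrix (Fin n) (Fin (n - 2)) F := Matrix.of fun j i => B.g i j

/-- The coordinate matrix of a frame. -/
def rowM (B : UFrame n F q) : Matrix (Fin (n - 2)) (Fin n) F := Matrix.of fun i j => B.g i j ^ q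

theorem colM_mulVec (B : UFrame n F q) (c : Fin (n - 2) → F) : colM B *ᵥ c = B.vec c := by
  funext j
  simp [colM, UFrame.vec, Matrix.mulVec, dotProduct, Finset.sum_apply, mul_comm]

theorem rowM_mulVec (B : UFrame n F q) (x : Fin n → F) :
    rowM B *ᵥ x = fun i => hermForm n F q x (B.g i) := by
  funext i
  simp [rowM, hermForm, Matrix.mulVec, dotProduct, mul_comm]

theorem rowM_mul_colM (B : UFrame n F q) : rowM B * colM B = 1 := by
  ext i l
  rw [Matrix.one_apply, Matrix.mul_apply]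
  have h := B.orth l i
  rw [show (if i = l then (1 : F) else 0) = if l = i then 1 else 0 from if_congr eq_comm rfl rfl, ← h]
  simp [rowM, colM, hermForm, mul_comm]

/-- The matrix of an element of the small unitary group acting on a frame. -/
def embM (B : UFrame n F q) (A : Matrix (Fin (n - 2)) (Fin (n - 2)) F) : Matrix (Fin n) (Fin n) F :=
  1 + colM B * (A - 1) * rowM B

theorem embM_mulVec (B : UFrame n F q) (A : Matrix (Fin (n - 2)) (Fin (n - 2)) F) (x : Fin n → F) :
    embM B A *ᵥ x = x + B.vec (A *ᵥ (rowM B *ᵥ x) - rowM B *ᵥ x) := by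
  rw [embM, Matrix.add_mulVec, Matrix.one_mulVec, ← Matrix.mulVec_mulVec, ← Matrix.mulVec_mulVec,
    colM_mulVec, Matrix.sub_mulVec, Matrix.one_mulVec]

theorem embM_preserving (hF : Fintype.card F = q ^ 2) (B : UFrame n F q) (A : SU (n - 2) F q)
    (x y : Fin n → F) : hermForm n F q (embM B A.1.1 *ᵥ x) (embM B A.1.1 *ᵥ y) = hermForm n F q x y := by
  rw [embM_mulVec, embM_mulVec]
  set c := rowM B *ᵥ x with hc
  set c' := rowM B *ᵥ y with hc'
  have e1 : ∀ a : Fin (n - 2) → F, hermForm n F q (B.vec a) y = hermForm (n - 2) F q a c' := by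
    intro a
    rw [UFrame.vec, herm_sum_left, hermForm]
    refine Finset.sum_congr rfl fun i _ => ?_
    rw [herm_smul_left, hc', rowM_mulVec, herm_conj y (B.g i) hF]
  have e2 : ∀ b : Fin (n - 2) → F, hermForm n F q x (B.vec b) = hermForm (n - 2) F q c b := by
    intro b
    rw [UFrame.vec, herm_sum_right _ hF, hermForm]
    refine Finset.sum_congr rfl fun i _ => ?_
    rw [herm_smul_right, hc, rowM_mulVec, mul_comm]
  rw [herm_add_left, herm_add_right _ _ _ hF, herm_add_right _ _ _ hF, e1, e2, B.vec_herm hF]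
  have h := A.2 c c'
  rw [herm_sub_left, herm_sub_right _ _ _ hF, herm_sub_left, herm_sub_right _ _ _ hF,
    herm_sub_right _ _ _ hF]
  have h' : hermForm (n - 2) F q (A.1.1 *ᵥ c) (A.1.1 *ᵥ c') = hermForm (n - 2) F q c c' := h
  linear_combination h'

theorem embM_det (B : UFrame n F q) (A : Matrix (Fin (n - 2)) (Fin (n - 2)) F) :
    (embM B A).det = A.det := by
  rw [embM, Matrix.mul_assoc, Matrix.det_one_add_mul_comm, Matrix.mul_assoc, rowM_mul_colM,
    Matrix.mul_one, add_sub_cancel]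

theorem embM_mul (B : UFrame n F q) (A A' : Matrix (Fin (n - 2)) (Fin (n - 2)) F) :
    embM B (A * A') = embM B A * embM B A' := by
  have key : colM B * (A - 1) * rowM B * (colM B * (A' - 1) * rowM B) =
      colM B * ((A - 1) * (A' - 1)) * rowM B := by
    simp only [Matrix.mul_assoc]
    rw [← Matrix.mul_assoc (rowM B) (colM B), rowM_mul_colM, Matrix.one_mul]
  rw [embM, embM, embM,
    show (1 + colM B * (A - 1) * rowM B) * (1 + colM B * (A' - 1) * rowM B) =
      1 + (colM B * (A - 1) * rowM B + colM B * (A' - 1) * rowM B +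
        colM B * (A - 1) * rowM B * (colM B * (A' - 1) * rowM B)) by
      rw [Matrix.add_mul, Matrix.mul_add, Matrix.one_mul, Matrix.one_mul, Matrix.mul_add, Matrix.mul_one]
      abel,
    key, show A * A' - 1 = (A - 1) + (A' - 1) + (A - 1) * (A' - 1) by noncomm_ring,
    Matrix.mul_add, Matrix.mul_add, Matrix.add_mul, Matrix.add_mul]

/-- The embedding of the unitary group of the orthogonal of a hyperbolic pair. -/
def embSU (hF : Fintype.card F = q ^ 2) (B : UFrame n F q) : SU (n - 2) F q →* SU n F q where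
  toFun A := ⟨⟨embM B A.1.1, by rw [embM_det]; exact A.1.2⟩, embM_preserving hF B A⟩
  map_one' := Subtype.ext (Subtype.ext (show embM B 1 = 1 by simp [embM]))
  map_mul' A A' := Subtype.ext (Subtype.ext (embM_mul B A.1.1 A'.1.1))

theorem embSU_fix (hF : Fintype.card F = q ^ 2) (B : UFrame n F q) (A : SU (n - 2) F q) :
    (embSU hF B A).1.1 *ᵥ B.e = B.e := by
  show embM B A.1.1 *ᵥ B.e = B.e
  have : rowM B *ᵥ B.e = 0 := by
    rw [rowM_mulVec]
    exact funext fun i => herm_eq_zero_symm hF (B.perp_ef i).1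
  rw [embM_mulVec, this, Matrix.mulVec_zero, sub_zero]
  simp [UFrame.vec]

theorem exists_embSU (hF : Fintype.card F = q ^ 2) (B : UFrame n F q) {Z : SU n F q}
    (he : Z.1.1 *ᵥ B.e = B.e) (hf : Z.1.1 *ᵥ B.f = B.f) :
    ∃ A : SU (n - 2) F q, embSU hF B A = Z := by
  set A := rowM B * Z.1.1 * colM B with hA
  have hcoord : ∀ c, B.vec (A *ᵥ c) = Z.1.1 *ᵥ B.vec c := by
    intro c
    rw [hA, ← Matrix.mulVec_mulVec, ← Matrix.mulVec_mulVec, colM_mulVec, rowM_mulVec]
    have h1 : hermForm n F q (Z.1.1 *ᵥ B.vec c) B.e = 0 := by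
      conv_lhs => rw [← he]
      rw [SU_herm, B.vec_e]
    have h2 : hermForm n F q (Z.1.1 *ᵥ B.vec c) B.f = 0 := by
      conv_lhs => rw [← hf]
      rw [SU_herm, B.vec_f]
    exact (B.hyp.complement_expand hF B.orth B.perp_ef B.indep h1 h2).symm
  have hpres : ∀ c c' : Fin (n - 2) → F,
      hermForm (n - 2) F q (A *ᵥ c) (A *ᵥ c') = hermForm (n - 2) F q c c' := fun c c' => by
    rw [← B.vec_herm hF, hcoord, hcoord, SU_herm, B.vec_herm hF]
  have hemb : embM B A = Z.1.1 := by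
    refine Matrix.mulVec_injective (funext fun x => ?_)
    show embM B A *ᵥ x = Z.1.1 *ᵥ x
    obtain ⟨r1, r2⟩ := B.hyp.rest_perp hF x
    have hx := B.hyp.complement_expand hF B.orth B.perp_ef B.indep r1 r2
    have hv : B.vec (rowM B *ᵥ x) = x - hermForm n F q x B.f • B.e - hermForm n F q x B.e • B.f := by
      rw [hx, UFrame.vec, rowM_mulVec]
      refine Finset.sum_congr rfl fun i _ => ?_
      rw [herm_sub_left, herm_sub_left, herm_smul_left, herm_smul_left,
        herm_eq_zero_symm hF (B.perp_ef i).1, herm_eq_zero_symm hF (B.perp_ef i).2]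
      ring_nf
    rw [embM_mulVec, show B.vec (A *ᵥ (rowM B *ᵥ x) - rowM B *ᵥ x) =
      B.vec (A *ᵥ (rowM B *ᵥ x)) - B.vec (rowM B *ᵥ x) by
        simp [UFrame.vec, sub_smul, Finset.sum_sub_distrib], hcoord, hv, Matrix.mulVec_sub,
      Matrix.mulVec_sub, Matrix.mulVec_smul, Matrix.mulVec_smul, he, hf]
    abel
  refine ⟨⟨⟨A, by rw [← embM_det B A, hemb]; exact Z.1.2⟩, hpres⟩, Subtype.ext (Subtype.ext hemb)⟩

theorem PS_le_closure_of (hF : Fintype.card F = q ^ 2) (B : UFrame n F q)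
    (hgen : ∀ A : SU (n - 2) F q, A ∈ Subgroup.closure (pSet p (SU (n - 2) F q))) :
    PS B.e ≤ Subgroup.closure
      {Y : SU n F q | Y ∈ PS B.e ∧ ∃ k : ℕ, Y ^ p ^ k = 1} := by
  intro X hX
  obtain ⟨X₀, hX₀, hY⟩ := exists_QS_match hF (W := ⊤) B.hyp trivial trivial hX (fun x hx => by
    rw [herm_nondeg_left hF fun v => hx v trivial]; simp)
  have hYf : ∀ y ∈ Submodule.span F {B.e, B.f}, (X₀⁻¹ * X).1.1 *ᵥ y = y := fun y hy =>
    hY y fun w hw => herm_eq_zero_symm hF (hw.2 y hy)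
  obtain ⟨A, hA⟩ := exists_embSU hF B (hYf _ (Submodule.subset_span (by simp)))
    (hYf _ (Submodule.subset_span (by simp)))
  rw [show X = X₀ * (X₀⁻¹ * X) by group, ← hA]
  refine mul_mem (Subgroup.subset_closure ⟨hX₀.1.1, ?_⟩) ?_
  · obtain ⟨k, hk⟩ := isPGroup_QS p hF B.hyp ⟨X₀, hX₀.1⟩
    exact ⟨k, congrArg Subtype.val hk⟩
  · have h := Subgroup.mem_map_of_mem (embSU hF B) (hgen A)
    rw [MonoidHom.map_closure] at h
    refine Subgroup.closure_mono ?_ h
    rintro _ ⟨Y, ⟨k, hk⟩, rfl⟩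
    exact ⟨embSU_fix hF B Y, k, by rw [← map_pow, hk, map_one]⟩

/-- `SU m` is generated by its `p`-elements. -/
theorem mem_closure_pSet (hF : Fintype.card F = q ^ 2) :
    ∀ (m : ℕ) (A : SU m F q), A ∈ Subgroup.closure (pSet p (SU m F q)) := by
  intro m
  induction m using Nat.strong_induction_on with
  | _ m ih =>
    intro A
    rcases (show m = 0 ∨ m = 1 ∨ m = 2 ∨ 3 ≤ m by omega) with rfl | rfl | rfl | hm
    · rw [Subsingleton.elim A 1]; exact one_mem _
    · have : A = 1 := Subtype.ext (Subtype.ext (by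
        ext i j
        fin_cases i; fin_cases j
        have := A.1.2
        rw [Matrix.det_fin_one] at this
        simpa using this))
      rw [this]; exact one_mem _
    · obtain ⟨X, hX, hXA⟩ := TGroup_le_map p hF
        (mem_TGroup_two hF (suToGU 2 F q A) (by rw [suToGU_val]; exact A.1.2))
      rwa [suToGU_injective hXA] at hX
    obtain ⟨B⟩ := UFrame.exists_frame (F := F) (n := m) hF (by omega)
    have he0 := ne_zero_of_hyp B.hyp
    obtain ⟨t, ht, hte⟩ := exists_mem_TGroup_isotropic hF hm (u := A.1.1 *ᵥ B.e) (w := B.e)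
      (fun h => he0 (by rw [← SU_inv_mulVec A B.e, h, Matrix.mulVec_zero])) (by rw [SU_herm, B.hyp.1])
      he0 B.hyp.1
    obtain ⟨X, hX, rfl⟩ := TGroup_le_map p hF ht
    rw [show A = X⁻¹ * (X * A) by group]
    refine mul_mem (inv_mem hX) (Subgroup.closure_mono (fun Y hY => hY.2)
      (PS_le_closure_of p hF B (ih (m - 2) (by omega)) ?_))
    show (X * A).1.1 *ᵥ B.e = B.e
    rw [SU_mul_mulVec]
    simpa using hte

theorem PS_le_closure (hF : Fintype.card F = q ^ 2) (B : UFrame n F q) :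
    PS B.e ≤ Subgroup.closure {Y : SU n F q | Y ∈ PS B.e ∧ ∃ k : ℕ, Y ^ p ^ k = 1} :=
  PS_le_closure_of p hF B (mem_closure_pSet p hF (n - 2))

end Cfsg.Agent.Lib.FusionClassical.UnitaryGen
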