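import Cfsg.Agent.Lib.FusionClassical.UnitaryGen

/-!
# Radicals of stabilisers of totally isotropic subspaces in special unitary groups
-/

set_option autoImplicit false
set_option linter.unusedSectionVars false

namespace Cfsg.Agent.Lib.FusionClassical.UnitaryRadical

open Matrix Module Cfsg.Agent.Lib.Unitary Cfsg.Agent.Lib.AutPSU
open Cfsg.Agent.Lib.FusionClassical.UnitaryGen

variable {F : Type*} [Field F] [Fintype F] {q : ℕ} {n : ℕ} (p : ℕ) [Fact p.Prime] [CharP F p]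

/-- The radical of the stabiliser of a totally isotropic subspace. -/
def RL (L : Submodule F (Fin n → F)) : Subgroup (SU n F q) where
  carrier := {X | (∀ x ∈ L, X.1.1 *ᵥ x = x) ∧ ∀ x ∈ perp q L, X.1.1 *ᵥ x - x ∈ L}
  one_mem' := ⟨fun x _ => by simp, fun x _ => by simp⟩
  mul_mem' := fun {X Y} hX hY => ⟨fun x hx => by rw [SU_mul_mulVec, hY.1 x hx, hX.1 x hx],
    fun x hx => by
      rw [SU_mul_mulVec, show Y.1.1 *ᵥ x = (Y.1.1 *ᵥ x - x) + x from (sub_add_cancel _ _).symm,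
        Matrix.mulVec_add, hX.1 _ (hY.2 x hx), add_sub_assoc]
      exact L.add_mem (hY.2 x hx) (hX.2 x hx)⟩
  inv_mem' := fun {X} hX => by
    have hfix : ∀ x ∈ L, X⁻¹.1.1 *ᵥ x = x := fun x hx => by
      conv_lhs => rw [← hX.1 x hx, SU_inv_mulVec]
    refine ⟨hfix, fun x hx => ?_⟩
    have h := hfix _ (hX.2 x hx)
    rw [Matrix.mulVec_sub, SU_inv_mulVec] at h
    rw [← neg_mem_iff, neg_sub, h]
    exact hX.2 x hx

theorem sub_mem_perp {L : Submodule F (Fin n → F)} {M : Matrix (Fin n) (Fin n) F}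
    (hM : ∀ x y, hermForm n F q (M *ᵥ x) (M *ᵥ y) = hermForm n F q x y)
    (hL : ∀ x ∈ L, M *ᵥ x = x) (x : Fin n → F) : M *ᵥ x - x ∈ perp q L := fun l hl => by
  rw [herm_sub_left, sub_eq_zero]
  conv_lhs => rw [← hL l hl]
  rw [hM]

theorem pow_sq_eq_one [Nonempty (Fin n)] {L : Submodule F (Fin n → F)}
    {M : Matrix (Fin n) (Fin n) F}
    (hM : ∀ x y, hermForm n F q (M *ᵥ x) (M *ᵥ y) = hermForm n F q x y)
    (hfix : ∀ x ∈ L, M *ᵥ x = x) (hperp : ∀ x ∈ perp q L, M *ᵥ x - x ∈ L) :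
    M ^ p ^ 2 = 1 := by
  have hsub : ∀ y, (M - 1) *ᵥ y = M *ᵥ y - y := fun y => by
    rw [Matrix.sub_mulVec, Matrix.one_mulVec]
  have h3 : (M - 1) ^ 3 = 0 := by
    refine Matrix.mulVec_injective (funext fun x => ?_)
    show (M - 1) ^ 3 *ᵥ x = 0 *ᵥ x
    rw [pow_succ, pow_two, ← Matrix.mulVec_mulVec, ← Matrix.mulVec_mulVec, hsub, hsub, hsub,
      Matrix.zero_mulVec, hfix _ (hperp _ (sub_mem_perp hM hfix x)), sub_self]
  have h1 := sub_pow_char_pow_of_commute (p := p) (n := 2) (Commute.one_right M)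
  rw [one_pow] at h1
  refine sub_eq_zero.1 (h1.symm.trans (pow_eq_zero_of_le ?_ h3))
  have h2 := (Fact.out : p.Prime).two_le
  nlinarith

theorem isPGroup_RL [Nonempty (Fin n)] (L : Submodule F (Fin n → F)) :
    IsPGroup p (RL (q := q) L) := fun X => ⟨2, Subtype.ext (Subtype.ext (Subtype.ext (by
  have := pow_sq_eq_one p (SU_herm X.1) X.2.1 X.2.2
  simpa using this)))⟩

theorem tv_mem_RL {L : Submodule F (Fin n → F)} (hL : L ≤ perp q L) {u : Fin n → F} (hu : u ∈ L)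
    {c : F} {X : SU n F q} (hX : IsTvAt u c (suToGU n F q X)) : X ∈ RL L := by
  have hfix : ∀ x ∈ perp q L, X.1.1 *ᵥ x = x := fun x hx => by
    rw [← suToGU_val X, hX.fix (hx u hu)]
  exact ⟨fun x hx => hfix x (hL hx), fun x hx => by rw [hfix x hx, sub_self]; exact L.zero_mem⟩

theorem eich_mem_RL {L : Submodule F (Fin n → F)} (hL : L ≤ perp q L) {u z : Fin n → F} (hu : u ∈ L)
    (hz : z ∈ perp q L) (hF : Fintype.card F = q ^ 2) {d : F} {X : SU n F q}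
    (hX : IsEich u z d (suToGU n F q X)) : X ∈ RL L := by
  refine ⟨fun x hx => ?_, fun x hx => ?_⟩
  · rw [← suToGU_val X, hX x, hL hx u hu, herm_eq_zero_symm hF (hz x hx)]
    simp
  · rw [← suToGU_val X, hX x, hx u hu]
    simpa using L.smul_mem _ hu

theorem stable_inv {L : Submodule F (Fin n → F)} {g : SU n F q}
    (hg : ∀ x ∈ L, g.1.1 *ᵥ x ∈ L) {x : Fin n → F} (hx : x ∈ L) : g⁻¹.1.1 *ᵥ x ∈ L := by
  have hinj : Function.Injective fun y : L => (⟨g.1.1 *ᵥ y.1, hg y y.2⟩ : L) := fun a b hab => by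
    refine Subtype.ext ?_
    have h := congrArg (fun y : L => g⁻¹.1.1 *ᵥ y.1) hab
    simpa only [SU_inv_mulVec] using h
  obtain ⟨⟨y, hy⟩, hyx⟩ := Finite.surjective_of_injective hinj ⟨x, hx⟩
  have h : g.1.1 *ᵥ y = x := congrArg Subtype.val hyx
  rw [← h, SU_inv_mulVec]
  exact hy

theorem conj_mem_RL {L : Submodule F (Fin n → F)} {g X : SU n F q}
    (hg : ∀ x ∈ L, g.1.1 *ᵥ x ∈ L) (hX : X ∈ RL L) : g * X * g⁻¹ ∈ RL L := by
  refine ⟨fun x hx => ?_, fun x hx => ?_⟩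
  · rw [SU_mul_mulVec, SU_mul_mulVec, hX.1 _ (stable_inv hg hx), SU_mulVec_inv]
  · have hy : g⁻¹.1.1 *ᵥ x ∈ perp q L := fun l hl => by
      have h := SU_herm g (g⁻¹.1.1 *ᵥ x) l
      rw [SU_mulVec_inv] at h
      rw [← h]
      exact hx _ (hg l hl)
    have h2 := hg _ (hX.2 _ hy)
    rw [Matrix.mulVec_sub, SU_mulVec_inv] at h2
    rw [SU_mul_mulVec, SU_mul_mulVec]
    exact h2

/-- The radical contains its centraliser modulo the centre. -/
theorem centralizer_RL (hF : Fintype.card F = q ^ 2) (hn : 2 ≤ n) {L : Submodule F (Fin n → F)}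
    (hL : L ≤ perp q L) (hne : L ≠ ⊥) {s : SU n F q} (hs : ∀ r ∈ RL L, Commute s r) :
    ∃ z ∈ Subgroup.center (SU n F q), ∃ r ∈ RL L, s = z * r := by
  haveI : Nonempty (Fin n) := ⟨⟨0, by omega⟩⟩
  obtain ⟨θ, hθ0, hθ⟩ := exists_trace_zero_ne_zero hF
  have hev : ∀ u ∈ L, u ≠ 0 → ∃ μ : F, μ * μ ^ q = 1 ∧ s.1.1 *ᵥ u = μ • u := by
    intro u hu hu0
    obtain ⟨f, hf⟩ := exists_hyp hF hu0 (hL hu u hu)
    obtain ⟨T, hT⟩ := exists_SU_tv hF (hL hu u hu) hθ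
    have h1 := hT.conj (suToGU n F q s)
    rw [← map_inv, ← map_mul, ← map_mul, (hs T (tv_mem_RL hL hu hT)).eq, mul_inv_cancel_right] at h1
    have h2 := h1 f
    rw [hT f, hf.symm' hF, mul_one, add_right_inj, suToGU_val, ← smul_smul] at h2
    have h3 := smul_right_injective _ hθ0 h2
    set c := hermForm n F q f (s.1.1 *ᵥ u)
    have hc : c ≠ 0 := fun h0 => hu0 (by rw [h3, h0, zero_smul])
    have hsu : s.1.1 *ᵥ u = c⁻¹ • u := by
      conv_rhs => rw [h3, smul_smul, inv_mul_cancel₀ hc, one_smul]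
    refine ⟨c⁻¹, ?_, hsu⟩
    have hc' : c = (c⁻¹) ^ q := by
      show hermForm n F q f (s.1.1 *ᵥ u) = _
      rw [hsu, herm_smul_right, hf.symm' hF, mul_one]
    rw [← hc', inv_mul_cancel₀ hc]
  obtain ⟨u₀, hu₀, hu₀0⟩ := Submodule.exists_mem_ne_zero_of_ne_bot hne
  obtain ⟨ε, hε, hsu₀⟩ := hev u₀ hu₀ hu₀0
  have hall : ∀ u ∈ L, s.1.1 *ᵥ u = ε • u := by
    intro u hu
    by_cases hsp : ∃ a : F, u = a • u₀
    · obtain ⟨a, rfl⟩ := hsp
      rw [Matrix.mulVec_smul, hsu₀, smul_comm]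
    obtain ⟨μ, -, hμ⟩ := hev u hu fun h => hsp ⟨0, by rw [h, zero_smul]⟩
    obtain ⟨κ, -, hκ⟩ := hev (u₀ + u) (L.add_mem hu₀ hu) fun h =>
      hsp ⟨-1, by rw [neg_one_smul]; exact eq_neg_of_add_eq_zero_right h⟩
    rw [Matrix.mulVec_add, hsu₀, hμ] at hκ
    by_cases hκμ : μ = κ
    · subst hκμ
      rw [smul_add, add_left_inj] at hκ
      rw [hμ, smul_left_injective F hu₀0 hκ]
    · refine absurd ⟨(μ - κ)⁻¹ * (κ - ε), ?_⟩ hsp
      have h1 : (μ - κ) • u = (κ - ε) • u₀ := by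
        rw [sub_smul, sub_smul]
        linear_combination (norm := module) hκ
      rw [← smul_smul, ← h1, smul_smul, inv_mul_cancel₀ (sub_ne_zero.2 hκμ), one_smul]
  obtain ⟨f, hf⟩ := exists_hyp hF hu₀0 (hL hu₀ u₀ hu₀)
  have hε0 : ε ≠ 0 := fun h => by rw [h, zero_mul] at hε; exact zero_ne_one hε
  set M : Matrix (Fin n) (Fin n) F := ε⁻¹ • s.1.1 with hM
  have hMx : ∀ x, M *ᵥ x = ε⁻¹ • (s.1.1 *ᵥ x) := fun x => Matrix.smul_mulVec _ _ _
  have hpres : ∀ x y, hermForm n F q (M *ᵥ x) (M *ᵥ y) = hermForm n F q x y := fun x y => by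
    rw [hMx, hMx, herm_smul_left, herm_smul_right, SU_herm, ← mul_assoc, inv_pow, ← mul_inv, hε,
      inv_one, one_mul]
  have hfix : ∀ x ∈ L, M *ᵥ x = x := fun x hx => by
    rw [hMx, hall x hx, smul_smul, inv_mul_cancel₀ hε0, one_smul]
  have hperp : ∀ z ∈ perp q L, M *ᵥ z - z ∈ L := by
    intro z hz
    obtain ⟨d, hd⟩ := exists_eich_param hF z
    obtain ⟨X, hX⟩ := exists_SU_eich hF (hL hu₀ u₀ hu₀) (hz u₀ hu₀) hd
    have h1 := hX.conj (suToGU n F q s)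
    rw [← map_inv, ← map_mul, ← map_mul, (hs X (eich_mem_RL hL hu₀ hz hF hX)).eq,
      mul_inv_cancel_right, suToGU_val, hsu₀] at h1
    have h2 := h1 f
    rw [hX f, hf.symm' hF, herm_smul_right, hf.symm' hF, one_smul, mul_one, mul_one] at h2
    have h3 : ε ^ q = ε⁻¹ := eq_inv_of_mul_eq_one_right hε
    have h4 : M *ᵥ z - z = ((d - hermForm n F q f z) -
        (d * ε ^ q - hermForm n F q f (s.1.1 *ᵥ z)) * ε) • u₀ := by
      rw [hMx, ← h3]
      linear_combination (norm := module) -h2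
    rw [h4]
    exact L.smul_mem _ hu₀
  have hdet : M.det = 1 := by
    obtain ⟨p, k, hp, hc, -, -⟩ := q_eq_primePow hF
    haveI := Fact.mk hp
    have h1 := congrArg Matrix.det (pow_sq_eq_one p hpres hfix hperp)
    rw [Matrix.det_pow, Matrix.det_one] at h1
    have h2 : (M.det - 1) ^ p ^ 2 = 0 := by rw [sub_pow_char_pow, one_pow, h1, sub_self]
    exact sub_eq_zero.1 (eq_zero_of_pow_eq_zero h2)
  set r : SU n F q := ⟨⟨M, hdet⟩, hpres⟩
  refine ⟨s * r⁻¹, (mem_center_SU_iff hF hn _).2 ⟨ε, fun x => ?_⟩, r, ⟨hfix, hperp⟩, by group⟩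
  have hr : r.1.1 *ᵥ (r⁻¹.1.1 *ᵥ x) = x := SU_mulVec_inv r x
  change M *ᵥ (r⁻¹.1.1 *ᵥ x) = x at hr
  rw [SU_mul_mulVec]
  conv_rhs => rw [← hr, hMx, smul_smul, mul_inv_cancel₀ hε0, one_smul]

end Cfsg.Agent.Lib.FusionClassical.UnitaryRadical
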