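import Cfsg.Agent.Lib.FusionClassical.UnitaryRadical

/-!
# Simplicity of the fusion systems of the projective special unitary groups
-/

set_option autoImplicit false
set_option linter.unusedSectionVars false

namespace Cfsg.Agent.Lib.FusionClassical.UnitarySimple

open Matrix Module Cfsg.Agent.Lib.Unitary Cfsg.Agent.Lib.AutPSU
open Cfsg.Agent.Lib.FusionClassical.UnitaryGen Cfsg.Agent.Lib.FusionClassical.UnitaryRadical

variable {F : Type*} [Field F] [Fintype F] {q : ℕ} {n : ℕ} (p : ℕ) [Fact p.Prime] [CharP F p]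

/-- A `p`-subgroup normalised by a Sylow subgroup lies in it. -/
theorem le_of_normalized (U : Sylow p (SU n F q)) {H : Subgroup (SU n F q)} (hH : IsPGroup p H)
    (h : ∀ u ∈ (U : Subgroup (SU n F q)), ∀ x ∈ H, u * x * u⁻¹ ∈ H) :
    H ≤ (U : Subgroup (SU n F q)) := by
  have h1 : IsPGroup p ((U : Subgroup (SU n F q)) ⊔ H : Subgroup (SU n F q)) :=
    U.isPGroup'.to_sup_of_normal_right' hH fun u hu =>
      Agent.Lib.FS.mem_normalizer_of_conj_mem (h u hu)
  rw [← U.is_maximal' h1 le_sup_left]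
  exact le_sup_right

theorem sylow_ne_bot (hF : Fintype.card F = q ^ 2) (hn : 2 ≤ n) (U : Sylow p (SU n F q)) :
    (U : Subgroup (SU n F q)) ≠ ⊥ := by
  intro hbot
  obtain ⟨e, f, h⟩ := exists_hyp_any (F := F) (n := n) hF hn
  obtain ⟨θ, hθ0, hθ⟩ := exists_trace_zero_ne_zero hF
  obtain ⟨T, hT⟩ := exists_SU_tv hF h.1 hθ
  have h1 := le_of_normalized p U (isPGroup_QS p hF h) (fun u hu x hx => by
    rw [hbot, Subgroup.mem_bot] at hu
    simpa [hu] using hx) (RS_le_QS h.1 ((mem_RS_iff hF h).2 ⟨θ, hθ, hT⟩))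
  rw [hbot, Subgroup.mem_bot] at h1
  have h2 := hT f
  rw [suToGU_val, h1, h.symm' hF, mul_one] at h2
  have h3 : θ • e = 0 := by simpa using h2
  exact ne_zero_of_hyp h ((smul_eq_zero.1 h3).resolve_left hθ0)

theorem exists_frame_fixed (hF : Fintype.card F = q ^ 2) (hn : 2 ≤ n) (U : Sylow p (SU n F q)) :
    ∃ B : UFrame n F q, (U : Subgroup (SU n F q)) ≤ PS B.e := by
  have hfp : (U : Subgroup (SU n F q)) ≤ fixPerp ⊤ := fun X _ x hx => by
    rw [herm_nondeg_left hF fun v => hx v trivial]; simp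
  have hne : ∃ X ∈ (U : Subgroup (SU n F q)), ∃ x ∈ (⊤ : Submodule F (Fin n → F)), X.1.1 *ᵥ x ≠ x := by
    by_contra h
    push Not at h
    exact sylow_ne_bot p hF hn U ((Subgroup.eq_bot_iff_forall _).2 fun X hX =>
      SU_ext fun v => by simpa using h X hX v trivial)
  obtain ⟨e, -, hiso, hfix⟩ := exists_null_fixed p hF U.isPGroup' hfp hne
  obtain ⟨f, hf⟩ := exists_hyp hF hiso.1 hiso.2
  obtain ⟨g, hg, ho, hli⟩ := hf.exists_complement hF
  exact ⟨⟨e, f, g, hf, hg, ho, hli⟩, hfix⟩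

variable {p}

theorem QS_le_sylow (hF : Fintype.card F = q ^ 2) {U : Sylow p (SU n F q)} (B : UFrame n F q)
    (hUe : (U : Subgroup (SU n F q)) ≤ PS B.e) : QS B.e ≤ (U : Subgroup (SU n F q)) :=
  le_of_normalized p U (isPGroup_QS p hF B.hyp) fun _ hu _ hx => NS_conj_QS (PS_le_NS B.e (hUe hu)) hx

/-- Common fixed vectors of `QS e`. -/
theorem eq_smul_of_fixed (hF : Fintype.card F = q ^ 2) (B : UFrame n F q) {x : Fin n → F}
    (h : ∀ X : SU n F q, X ∈ QS B.e → X.1.1 *ᵥ x = x) : x = hermForm n F q x B.f • B.e := by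
  obtain ⟨θ, hθ0, hθ⟩ := exists_trace_zero_ne_zero hF
  obtain ⟨T, hT⟩ := exists_SU_tv hF B.hyp.1 hθ
  have h1 := hT x
  rw [suToGU_val, h T (RS_le_QS B.hyp.1 ((mem_RS_iff hF B.hyp).2 ⟨θ, hθ, hT⟩)), left_eq_add,
    smul_eq_zero] at h1
  have hxe : hermForm n F q x B.e = 0 :=
    (mul_eq_zero.1 (h1.resolve_right (ne_zero_of_hyp B.hyp))).resolve_left hθ0
  have hxg : ∀ i, hermForm n F q x (B.g i) = 0 := by
    intro i
    obtain ⟨d, hd⟩ := exists_eich_param hF (B.g i)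
    obtain ⟨X, hX⟩ := exists_SU_eich hF B.hyp.1 (B.perp_ef i).1 hd
    have h2 := hX x
    rw [suToGU_val, h X (mem_QS_of_eich hF B.hyp.1 (B.perp_ef i).1 hX), hxe] at h2
    simp only [zero_smul, add_zero, mul_zero, zero_sub, left_eq_add, smul_eq_zero, neg_eq_zero] at h2
    exact h2.resolve_right (ne_zero_of_hyp B.hyp)
  obtain ⟨r1, r2⟩ := B.hyp.rest_perp hF x
  have h3 := B.hyp.complement_expand hF B.orth B.perp_ef B.indep r1 r2
  rw [Finset.sum_eq_zero fun i _ => by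
    rw [herm_sub_left, herm_sub_left, herm_smul_left, herm_smul_left, hxg i,
      herm_eq_zero_symm hF (B.perp_ef i).1, herm_eq_zero_symm hF (B.perp_ef i).2, mul_zero, mul_zero,
      sub_zero, sub_zero, zero_smul]] at h3
  rw [hxe, zero_smul, sub_zero, sub_eq_zero] at h3
  exact h3

/-- A second isotropic vector whose line with `e` is invariant. -/
theorem exists_second (hF : Fintype.card F = q ^ 2) (hn : 4 ≤ n) {U : Sylow p (SU n F q)}
    (B : UFrame n F q) (hUe : (U : Subgroup (SU n F q)) ≤ PS B.e) :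
    ∃ v w : Fin n → F, Hyp q v w ∧ hermForm n F q v B.e = 0 ∧ hermForm n F q v B.f = 0 ∧
      hermForm n F q w B.e = 0 ∧ hermForm n F q w B.f = 0 ∧
      ∀ u ∈ (U : Subgroup (SU n F q)), ∀ x ∈ Submodule.span F {B.e, v},
        u.1.1 *ᵥ x ∈ Submodule.span F {B.e, v} := by
  set W := perp q (Submodule.span F {B.e, B.f}) with hW
  have hmemW : ∀ x, x ∈ W ↔ hermForm n F q x B.e = 0 ∧ hermForm n F q x B.f = 0 := fun x => by
    simp [hW, mem_perp_span hF]
  set P := (U : Subgroup (SU n F q)) ⊓ fixPerp W with hP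
  obtain ⟨v, hvW, hiso, hfix⟩ : ∃ v ∈ W, IsoVec q v ∧ ∀ X ∈ P, X.1.1 *ᵥ v = v := by
    by_cases hne : ∃ X ∈ P, ∃ x ∈ W, X.1.1 *ᵥ x ≠ x
    · exact exists_null_fixed p hF (U.isPGroup'.to_le inf_le_left) inf_le_right hne
    push Not at hne
    obtain ⟨a, _, _, ha, -⟩ := exists_three_norm_neg_one hF
    set i : Fin (n - 2) := ⟨0, by omega⟩
    set j : Fin (n - 2) := ⟨1, by omega⟩
    have hij : i ≠ j := by simp [i, j]
    have hvW : B.g i + a • B.g j ∈ W := (hmemW _).2 ⟨by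
      simp [herm_add_left, herm_smul_left, (B.perp_ef _).1], by
      simp [herm_add_left, herm_smul_left, (B.perp_ef _).2]⟩
    refine ⟨_, hvW, ⟨fun h => ?_, ?_⟩, fun X hX => hne X hX _ hvW⟩
    · have := congrArg (fun x => hermForm n F q x (B.g i)) h
      simp [herm_add_left, herm_smul_left, herm_zero_left, B.orth i i, B.orth j i, hij.symm] at this
    · simp only [herm_add_left, herm_add_right _ _ _ hF, herm_smul_left, herm_smul_right,
        B.orth _ _, if_true, if_neg hij, if_neg hij.symm, mul_zero, mul_one, add_zero, zero_add]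
      linear_combination ha
  obtain ⟨hve, hvf⟩ := (hmemW v).1 hvW
  obtain ⟨w, hwW, hvw⟩ := exists_partner_in hF (nondeg_perp hF (B.hyp.nondeg hF)) hvW hiso
  refine ⟨v, w, hvw, hve, hvf, ((hmemW w).1 hwW).1, ((hmemW w).1 hwW).2, fun u hu x hx => ?_⟩
  obtain ⟨a, b, rfl⟩ := Submodule.mem_span_pair.1 hx
  obtain ⟨X₀, hX₀, hY⟩ := exists_QS_match hF (W := ⊤) B.hyp trivial trivial (hUe hu) (fun x hx => by
    rw [herm_nondeg_left hF fun v => hx v trivial]; simp)
  have hYW : X₀⁻¹ * u ∈ fixPerp W := by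
    intro y hy
    exact hY y fun z hz => hy z hz.2
  have hv' : (X₀⁻¹ * u).1.1 *ᵥ v = v :=
    hfix _ ⟨(U : Subgroup (SU n F q)).mul_mem ((U : Subgroup (SU n F q)).inv_mem (QS_le_sylow hF B hUe hX₀.1)) hu, hYW⟩
  obtain ⟨c, hc⟩ := hX₀.1.2 v hve
  have huv : u.1.1 *ᵥ v = v + c • B.e := by
    rw [show u = X₀ * (X₀⁻¹ * u) by group, SU_mul_mulVec, hv', hc]
  rw [Matrix.mulVec_add, Matrix.mulVec_smul, Matrix.mulVec_smul, huv,
    show u.1.1 *ᵥ B.e = B.e from hUe hu]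
  exact Submodule.mem_span_pair.2 ⟨a + b * c, b, by module⟩

theorem span_pair_le_perp (hF : Fintype.card F = q ^ 2) {e v : Fin n → F}
    (he : hermForm n F q e e = 0) (hv : hermForm n F q v v = 0) (hve : hermForm n F q v e = 0) :
    Submodule.span F {e, v} ≤ perp q (Submodule.span F {e, v}) := by
  refine Submodule.span_le.2 ?_
  rintro x (rfl | rfl) <;> refine (mem_perp_span hF).2 ?_ <;> rintro y (rfl | rfl)
  · exact he
  · exact herm_eq_zero_symm hF hve
  · exact hve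
  · exact hv

theorem stable_pair {e v : Fin n → F} {g : SU n F q}
    (he : g.1.1 *ᵥ e ∈ Submodule.span F {e, v}) (hv : g.1.1 *ᵥ v ∈ Submodule.span F {e, v})
    {x : Fin n → F} (hx : x ∈ Submodule.span F {e, v}) : g.1.1 *ᵥ x ∈ Submodule.span F {e, v} := by
  obtain ⟨a, b, rfl⟩ := Submodule.mem_span_pair.1 hx
  rw [Matrix.mulVec_add, Matrix.mulVec_smul, Matrix.mulVec_smul]
  exact Submodule.add_mem _ (Submodule.smul_mem _ _ he) (Submodule.smul_mem _ _ hv)

/-- The elements acting on an isotropic plane by elementary matrices. -/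
theorem exists_shear (hF : Fintype.card F = q ^ 2) {e f v w : Fin n → F}
    (hef : Hyp q e f) (hvw : Hyp q v w) (hve : hermForm n F q v e = 0)
    (hfv : hermForm n F q f v = 0) (c : F) :
    ∃ Y : SU n F q, (∃ k : ℕ, Y ^ p ^ k = 1) ∧ Y.1.1 *ᵥ v = v ∧ Y.1.1 *ᵥ e = e + c • v := by
  have hd : (0 : F) + 0 ^ q + hermForm n F q ((-c) ^ q • f) ((-c) ^ q • f) = 0 := by
    rw [herm_smul_left, herm_smul_right, hef.2.1, zero_pow_q hF]; ring
  have hz : hermForm n F q ((-c) ^ q • f) v = 0 := by rw [herm_smul_left, hfv, mul_zero]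
  obtain ⟨Y, hY⟩ := exists_SU_eich hF hvw.1 hz hd
  have hQ := mem_QS_of_eich hF hvw.1 hz hY
  obtain ⟨k, hk⟩ := isPGroup_QS p hF hvw ⟨Y, hQ⟩
  refine ⟨Y, ⟨k, congrArg Subtype.val hk⟩, hQ.1, ?_⟩
  rw [← suToGU_val Y, hY e, herm_eq_zero_symm hF hve, herm_smul_right, hef.2.2, mul_one, mul_zero,
    pow_q_q hF, zero_smul, add_zero, zero_sub, neg_neg]

/-- An element scaling `e`, generated by `p`-elements stabilising an isotropic plane. -/
theorem exists_scale (hF : Fintype.card F = q ^ 2) {e f v w : Fin n → F}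
    (hef : Hyp q e f) (hvw : Hyp q v w) (hve : hermForm n F q v e = 0)
    (hvf : hermForm n F q v f = 0) (hwe : hermForm n F q w e = 0) {a : F} (ha : a ≠ 0) :
    ∃ t ∈ Subgroup.closure {Y : SU n F q | (∀ r ∈ RL (Submodule.span F {e, v}),
        Y * r * Y⁻¹ ∈ RL (Submodule.span F {e, v})) ∧ ∃ k : ℕ, Y ^ p ^ k = 1},
      t.1.1 *ᵥ e = a • e := by
  obtain ⟨Y₁, hp1, hv1, he1⟩ := exists_shear (p := p) hF hef hvw hve (herm_eq_zero_symm hF hvf) 1
  obtain ⟨Y₂, hp2, he2, hv2⟩ := exists_shear (p := p) hF hvw hef (herm_eq_zero_symm hF hve) hwe (a - 1)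
  obtain ⟨Y₃, hp3, hv3, he3⟩ :=
    exists_shear (p := p) hF hef hvw hve (herm_eq_zero_symm hF hvf) (-a⁻¹)
  have hme : e ∈ Submodule.span F {e, v} := Submodule.subset_span (by simp)
  have hmv : v ∈ Submodule.span F {e, v} := Submodule.subset_span (by simp)
  refine ⟨Y₃ * (Y₂ * Y₁), mul_mem (Subgroup.subset_closure ⟨fun r hr => conj_mem_RL
      (fun x hx => stable_pair ?_ ?_ hx) hr, hp3⟩) (mul_mem (Subgroup.subset_closure ⟨fun r hr =>
      conj_mem_RL (fun x hx => stable_pair ?_ ?_ hx) hr, hp2⟩) (Subgroup.subset_closure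
      ⟨fun r hr => conj_mem_RL (fun x hx => stable_pair ?_ ?_ hx) hr, hp1⟩)), ?_⟩
  · rw [he3]; exact Submodule.add_mem _ hme (Submodule.smul_mem _ _ hmv)
  · rw [hv3]; exact hmv
  · rw [he2]; exact hme
  · rw [hv2]; exact Submodule.add_mem _ hmv (Submodule.smul_mem _ _ hme)
  · rw [he1]; exact Submodule.add_mem _ hme (Submodule.smul_mem _ _ hmv)
  · rw [hv1]; exact hmv
  · rw [SU_mul_mulVec, SU_mul_mulVec, he1, Matrix.mulVec_add, Matrix.mulVec_smul, he2, hv2,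
      Matrix.mulVec_add, Matrix.mulVec_smul, Matrix.mulVec_add, Matrix.mulVec_smul, hv3, he3]
    match_scalars <;> field_simp <;> ring

/-! ### strongly closed subgroups -/

theorem kap_of_eich (hF : Fintype.card F = q ^ 2) (B : UFrame n F q) {z : Fin n → F} {d : F}
    {X : SU n F q} (hze : hermForm n F q z B.e = 0) (hX : IsEich B.e z d (suToGU n F q X)) :
    X ∈ QS B.e ∧ B.kap X = fun i => hermForm n F q z (B.g i) := by
  refine ⟨mem_QS_of_eich hF B.hyp.1 hze hX, funext fun i => ?_⟩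
  rw [UFrame.kap, ← suToGU_val X, hX B.f, B.hyp.symm' hF, herm_add_left, herm_add_left,
    herm_smul_left, herm_smul_left, herm_eq_zero_symm hF (B.perp_ef i).1,
    herm_eq_zero_symm hF (B.perp_ef i).2]
  ring

theorem kap_one (hF : Fintype.card F = q ^ 2) (B : UFrame n F q) :
    B.kap (1 : SU n F q) = 0 := by
  have h := (B.kap_dlt_mul hF (one_mem (QS (q := q) B.e)) (one_mem _)).1
  rw [mul_one] at h
  exact left_eq_add.1 h

theorem kap_inv (hF : Fintype.card F = q ^ 2) (B : UFrame n F q) {X : SU n F q} (hX : X ∈ QS B.e) :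
    B.kap X⁻¹ = -B.kap X := by
  have h := (B.kap_dlt_mul hF hX (inv_mem hX)).1
  rw [mul_inv_cancel, kap_one hF B] at h
  exact eq_neg_of_add_eq_zero_right h.symm

variable (hF : Fintype.card F = q ^ 2) (hn : 4 ≤ n) (U : Sylow p (SU n F q))
variable (B : UFrame n F q) (hUe : (U : Subgroup (SU n F q)) ≤ PS B.e)
variable (T : Subgroup (SU n F q)) (hTU : T ≤ (U : Subgroup (SU n F q)))
variable (hT : ∀ (g t : SU n F q), t ∈ T →
  g * t * g⁻¹ ∈ (U : Subgroup (SU n F q)) → g * t * g⁻¹ ∈ T)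

include hF hn hUe hTU hT in
theorem exists_mem_RS (hT1 : T ≠ ⊥) : ∃ t ∈ T, t ∈ RS B.e ∧ t ≠ 1 := by
  have hQ := QS_le_sylow hF B hUe
  -- a non-trivial element of `T` in the point radical
  obtain ⟨t₀, ht₀, ht₀Q, ht₀1⟩ : ∃ t ∈ T, t ∈ QS B.e ∧ t ≠ 1 := by
    obtain ⟨t, ht, ht1⟩ := (Subgroup.bot_or_exists_ne_one T).resolve_left hT1
    by_cases hc : ∀ X ∈ QS B.e, t * X = X * t
    · exact ⟨t, ht, RS_le_QS B.hyp.1 (mem_RS_of_commute hF B.hyp (hUe (hTU ht)) hc), ht1⟩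
    push Not at hc
    obtain ⟨X, hX, hne⟩ := hc
    refine ⟨X * t * X⁻¹ * t⁻¹,
      mul_mem (hT X t ht (mul_mem (mul_mem (hQ hX) (hTU ht)) (inv_mem (hQ hX)))) (inv_mem ht), ?_, ?_⟩
    · rw [show X * t * X⁻¹ * t⁻¹ = X * (t * X⁻¹ * t⁻¹) by group]
      exact mul_mem hX (NS_conj_QS (PS_le_NS B.e (hUe (hTU ht))) (inv_mem hX))
    · intro e
      rw [mul_inv_eq_one, mul_inv_eq_iff_eq_mul] at e
      exact hne e.symm
  by_cases hc : ∀ X ∈ QS B.e, t₀ * X = X * t₀
  · exact ⟨t₀, ht₀, mem_RS_of_commute hF B.hyp ht₀Q.1 hc, ht₀1⟩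
  push Not at hc
  obtain ⟨X, hX, hne⟩ := hc
  refine ⟨X * t₀ * X⁻¹ * t₀⁻¹,
    mul_mem (hT X t₀ ht₀ (mul_mem (mul_mem (hQ hX) (hTU ht₀)) (inv_mem (hQ hX)))) (inv_mem ht₀), ?_, ?_⟩
  · have h1 := mul_mem (mul_mem (mul_mem hX ht₀Q) (inv_mem hX)) (inv_mem ht₀Q)
    rw [B.mem_RS_iff_kap hF h1, (B.kap_dlt_mul hF (mul_mem (mul_mem hX ht₀Q) (inv_mem hX))
      (inv_mem ht₀Q)).1, (B.kap_dlt_mul hF (mul_mem hX ht₀Q) (inv_mem hX)).1,
      (B.kap_dlt_mul hF hX ht₀Q).1, kap_inv hF B hX, kap_inv hF B ht₀Q]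
    abel
  · intro e
    rw [mul_inv_eq_one, mul_inv_eq_iff_eq_mul] at e
    exact hne e.symm

include hF hn hUe hTU hT in
theorem RS_le (hT1 : T ≠ ⊥) : RS B.e ≤ T := by
  obtain ⟨t, ht, htR, ht1⟩ := exists_mem_RS hF hn U B hUe T hTU hT hT1
  obtain ⟨c₀, hc₀, htc⟩ := (mem_RS_iff hF B.hyp).1 htR
  have hc₀0 : c₀ ≠ 0 := fun h => ht1 (suToGU_injective (GU_ext fun x => by
    rw [htc x, h, zero_mul, zero_smul, add_zero, map_one, GU_one_mulVec]))
  intro X hX
  obtain ⟨c, hc, hXc⟩ := (mem_RS_iff hF B.hyp).1 hX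
  rcases eq_or_ne c 0 with rfl | hc0
  · rw [show X = 1 from suToGU_injective (GU_ext fun x => by
      rw [hXc x, zero_mul, zero_smul, add_zero, map_one, GU_one_mulVec])]
    exact one_mem T
  obtain ⟨a, ha⟩ := norm_surj hF (y := c / c₀) (by
    rw [div_pow, eq_neg_of_add_eq_zero_right hc, eq_neg_of_add_eq_zero_right hc₀, neg_div_neg_eq])
  have ha0 : a ≠ 0 := fun h => div_ne_zero hc0 hc₀0 (by rw [← ha, h, zero_mul])
  have he0 := ne_zero_of_hyp B.hyp
  obtain ⟨A, hA, hAe⟩ := exists_SU_isotropic hF (by omega) he0 B.hyp.1 (e' := a • B.e)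
    (smul_ne_zero ha0 he0) (by rw [herm_smul_left, herm_smul_right, B.hyp.1, mul_zero, mul_zero])
  obtain ⟨g, hg⟩ := exists_SU_of_GU hA
  have h1 := htc.conj (suToGU n F q g)
  rw [suToGU_val, hg, hAe, ← map_inv, ← map_mul, ← map_mul] at h1
  have hgt : g * t * g⁻¹ = X := suToGU_injective (GU_ext fun x => by
    rw [h1 x, hXc x, herm_smul_right, smul_smul]
    congr 2
    have h2 : a * a ^ q * c₀ = c := by rw [ha, div_mul_cancel₀ c hc₀0]
    rw [← h2]
    ring)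
  rw [← hgt]
  exact hT g t ht (by rw [hgt]; exact QS_le_sylow hF B hUe (RS_le_QS B.hyp.1 hX))

include hF hn hUe hTU hT in
theorem tv_mem (hT1 : T ≠ ⊥) {u : Fin n → F} (hu : IsoVec q u) {c : F} {X : SU n F q}
    (hX : IsTvAt u c (suToGU n F q X)) (hXU : X ∈ (U : Subgroup (SU n F q))) : X ∈ T := by
  obtain ⟨A, hA, hAe⟩ := exists_SU_isotropic hF (by omega) (ne_zero_of_hyp B.hyp) B.hyp.1 hu.1 hu.2
  obtain ⟨g, hg⟩ := exists_SU_of_GU hA
  have hge : g.1.1 *ᵥ B.e = u := by rw [hg, hAe]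
  have h1 : g⁻¹ * X * g⁻¹⁻¹ ∈ RS (g⁻¹.1.1 *ᵥ u) := by
    refine RS_conj g⁻¹ fun x hx => ?_
    rw [← suToGU_val X]; exact hX.fix hx
  rw [← hge, SU_inv_mulVec] at h1
  have h2 := hT g _ (RS_le hF hn U B hUe T hTU hT hT1 h1)
  rw [show g * (g⁻¹ * X * g⁻¹⁻¹) * g⁻¹ = X by group] at h2
  exact h2 hXU

include hF hn hUe hTU hT in
theorem QS_le (hT1 : T ≠ ⊥) : QS B.e ≤ T := by
  have hQ := QS_le_sylow hF B hUe
  have hR := RS_le hF hn U B hUe T hTU hT hT1
  -- kappa values of `T`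
  let M : AddSubgroup (Fin (n - 2) → F) :=
    { carrier := {c | ∃ X ∈ QS B.e, X ∈ T ∧ B.kap X = c}
      zero_mem' := ⟨1, one_mem _, one_mem _, kap_one hF B⟩
      add_mem' := by
        rintro _ _ ⟨X, hX, hXT, rfl⟩ ⟨Y, hY, hYT, rfl⟩
        exact ⟨X * Y, mul_mem hX hY, mul_mem hXT hYT, (B.kap_dlt_mul hF hX hY).1⟩
      neg_mem' := by
        rintro _ ⟨X, hX, hXT, rfl⟩
        exact ⟨X⁻¹, inv_mem hX, inv_mem hXT, kap_inv hF B hX⟩ }
  suffices hM : ∀ c, c ∈ M by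
    intro Y hY
    obtain ⟨X, hX, hXT, hXY⟩ := hM (B.kap Y)
    have h1 : X⁻¹ * Y ∈ RS B.e := by
      rw [B.mem_RS_iff_kap hF (mul_mem (inv_mem hX) hY), (B.kap_dlt_mul hF (inv_mem hX) hY).1,
        kap_inv hF B hX, hXY, neg_add_cancel]
    rw [show Y = X * (X⁻¹ * Y) by group]
    exact mul_mem hXT (hR h1)
  obtain ⟨v, w, hvw, hve, hvf, hwe, hwf, hstab⟩ := exists_second hF hn B hUe
  have hL := span_pair_le_perp hF B.hyp.1 hvw.1 hve
  have hv0 := ne_zero_of_hyp hvw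
  haveI : Nonempty (Fin n) := ⟨⟨0, by omega⟩⟩
  obtain ⟨θ, hθ0, hθ⟩ := exists_trace_zero_ne_zero hF
  obtain ⟨Tv, hTv⟩ := exists_SU_tv hF hvw.1 hθ
  have hTvU : Tv ∈ (U : Subgroup (SU n F q)) :=
    le_of_normalized p U (isPGroup_RL p _) (fun u hu r hr => conj_mem_RL (hstab u hu) hr)
      (tv_mem_RL hL (Submodule.subset_span (by simp)) hTv)
  have hTvT := tv_mem hF hn U B hUe T hTU hT hT1 ⟨hv0, hvw.1⟩ hTv hTvU
  -- the multiples of `v`
  have hseed : ∀ b : F, ∃ X ∈ T, ∃ d, IsEich B.e (b • v) d (suToGU n F q X) := by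
    intro b
    set b' := θ⁻¹ * b
    have hze : hermForm n F q (b' • w) B.e = 0 := by rw [herm_smul_left, hwe, mul_zero]
    obtain ⟨d, hd⟩ := exists_eich_param hF (b' • w)
    obtain ⟨X, hX⟩ := exists_SU_eich hF B.hyp.1 hze hd
    have hXQ := mem_QS_of_eich hF B.hyp.1 hze hX
    have hTve : Tv.1.1 *ᵥ B.e = B.e := by
      rw [← suToGU_val Tv]; exact hTv.fix (herm_eq_zero_symm hF hve)
    have hTvz : Tv.1.1 *ᵥ (b' • w) = b' • w + b • v := by
      rw [← suToGU_val Tv, hTv, herm_smul_left, hvw.symm' hF, mul_one,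
        show θ * b' = b from mul_inv_cancel_left₀ hθ0 b]
    have h1 := hX.conj (suToGU n F q Tv)
    rw [suToGU_val, hTve, hTvz] at h1
    obtain ⟨d', hd'⟩ : ∃ d', IsEich B.e (b • v) d'
        (suToGU n F q Tv * suToGU n F q X * (suToGU n F q Tv)⁻¹ * (suToGU n F q X)⁻¹) := by
      have hze' : hermForm n F q (-(b' • w)) B.e = 0 := by rw [herm_neg_left, hze, neg_zero]
      have hzv : hermForm n F q (b' • w + b • v) B.e = 0 := by
        rw [herm_add_left, hze, herm_smul_left, hve, mul_zero, add_zero]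
      have h3 := h1.mul hF (hX.inv hF B.hyp.1 hze hd) B.hyp.1 hzv hze'
      rw [show b' • w + b • v + -(b' • w) = b • v by abel] at h3
      exact ⟨_, h3⟩
    refine ⟨Tv * X * Tv⁻¹ * X⁻¹, ?_, d', by simpa only [map_mul, map_inv] using hd'⟩
    rw [show Tv * X * Tv⁻¹ * X⁻¹ = Tv * (X * Tv⁻¹ * X⁻¹) by group]
    exact mul_mem hTvT (hT X Tv⁻¹ (inv_mem hTvT)
      (mul_mem (mul_mem (hQ hXQ) (inv_mem hTvU)) (inv_mem (hQ hXQ))))
  -- the multiples of every isotropic vector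
  have he0 := ne_zero_of_hyp B.hyp
  have hli : ∀ x : Fin n → F, x ≠ 0 → hermForm n F q x B.f = 0 → LinearIndependent F ![B.e, x] := by
    intro x hx0 hxf
    rw [LinearIndependent.pair_iff]
    intro a b hab
    have h1 := congrArg (fun y => hermForm n F q y B.f) hab
    simp only [herm_add_left, herm_smul_left, herm_zero_left, B.hyp.2.2, hxf, mul_one, mul_zero,
      add_zero] at h1
    exact ⟨h1, (smul_eq_zero.1 (by simpa [h1] using hab)).resolve_right hx0⟩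
  have hiso : ∀ x : Fin n → F, x ≠ 0 → hermForm n F q x x = 0 → hermForm n F q x B.e = 0 →
      hermForm n F q x B.f = 0 → ∀ b : F, (fun i => hermForm n F q (b • x) (B.g i)) ∈ M := by
    intro x hx0 hxx hxe hxf b
    obtain ⟨A, a, ha0, hA, hAe, hAv⟩ := exists_SU_isotropic_pair hF (hli v hv0 hvf) B.hyp.1 hvw.1
      (herm_eq_zero_symm hF hve) (hli x hx0 hxf) B.hyp.1 hxx (herm_eq_zero_symm hF hxe)
    obtain ⟨g, hg⟩ := exists_SU_of_GU hA
    obtain ⟨X, hXT, d, hX⟩ := hseed ((a ^ q)⁻¹ * b)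
    have h1 := hX.conj (suToGU n F q g)
    rw [suToGU_val, hg, hAe, Matrix.mulVec_smul, hAv, ← map_inv, ← map_mul, ← map_mul] at h1
    have h2 : IsEich B.e (b • x) (a * a ^ q * d) (suToGU n F q (g * X * g⁻¹)) := fun y => by
      rw [h1 y]
      simp only [herm_smul_right, mul_pow, inv_pow, pow_q_q hF]
      match_scalars <;> field_simp <;> ring
    obtain ⟨hQX, hk⟩ := kap_of_eich hF B (by rw [herm_smul_left, hxe, mul_zero]) h2
    exact ⟨g * X * g⁻¹, hQX, hT g X hXT (hQ hQX), hk⟩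
  intro c
  haveI : Nontrivial (Fin (n - 2)) := Fin.nontrivial_iff_two_le.2 (by omega)
  obtain ⟨a, b, -, ha, hb, -, hab, -, -⟩ := exists_three_norm_neg_one hF
  have hsing : ∀ (j : Fin (n - 2)) (s : F), (Pi.single j s : Fin (n - 2) → F) ∈ M := by
    intro j s
    obtain ⟨i, hij⟩ := exists_ne j
    have key : ∀ r : F, r * r ^ q = -1 → ∀ t : F,
        (fun l => hermForm n F q (t • (B.g i + r • B.g j)) (B.g l)) ∈ M := by
      intro r hr t
      refine hiso _ (fun h => ?_) ?_ ?_ ?_ t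
      · have := congrArg (fun y => hermForm n F q y (B.g i)) h
        simp [herm_add_left, herm_smul_left, herm_zero_left, B.orth i i, B.orth j i, hij.symm] at this
      · simp only [herm_add_left, herm_add_right _ _ _ hF, herm_smul_left, herm_smul_right,
          B.orth _ _, if_true, if_neg hij, if_neg hij.symm, mul_zero, mul_one, add_zero, zero_add]
        linear_combination hr
      · simp [herm_add_left, herm_smul_left, (B.perp_ef _).1]
      · simp [herm_add_left, herm_smul_left, (B.perp_ef _).2]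
    have h1 := sub_mem (key a ha (s / (a - b))) (key b hb (s / (a - b)))
    convert h1 using 1
    funext l
    simp only [Pi.sub_apply, herm_smul_left, herm_add_left, B.orth _ _]
    have := sub_ne_zero.2 hab
    by_cases hl : j = l
    · subst hl; simp [hij]; field_simp
    · simp [hl, Pi.single_eq_of_ne (Ne.symm hl)]
  rw [← Finset.univ_sum_single c]
  exact sum_mem fun j _ => hsing j _

include hF hn hUe hTU hT in
theorem U_le (hT1 : T ≠ ⊥) : (U : Subgroup (SU n F q)) ≤ T := by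
  refine (sylow_le_closure_eich p hF U).trans ((Subgroup.closure_le _).2 ?_)
  rintro X ⟨hXU, u, hu, hXu⟩
  obtain ⟨A, hA, hAe⟩ := exists_SU_isotropic hF (by omega) (ne_zero_of_hyp B.hyp) B.hyp.1 hu.1 hu.2
  obtain ⟨g, hg⟩ := exists_SU_of_GU hA
  have hge : g.1.1 *ᵥ B.e = u := by rw [hg, hAe]
  have h1 := QS_conj g⁻¹ hXu
  rw [← hge, SU_inv_mulVec] at h1
  have h2 := hT g _ (QS_le hF hn U B hUe T hTU hT hT1 h1)
  rw [show g * (g⁻¹ * X * g⁻¹⁻¹) * g⁻¹ = X by group] at h2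
  exact h2 hXU

omit T

/-- An element of the normaliser of `U` is a product of covered elements. -/
theorem exists_cover_element (hF : Fintype.card F = q ^ 2) {U : Sylow p (SU n F q)}
    {B : UFrame n F q} (hUe : (U : Subgroup (SU n F q)) ≤ PS B.e) {L : Submodule F (Fin n → F)}
    (hstab : ∀ u ∈ (U : Subgroup (SU n F q)), ∀ x ∈ L, u.1.1 *ᵥ x ∈ L) {t : SU n F q} {a : F}
    (ha : a ≠ 0) (hte : t.1.1 *ᵥ B.e = a • B.e)
    (ht : t ∈ Subgroup.closure {Y : SU n F q | (∀ r ∈ RL L, Y * r * Y⁻¹ ∈ RL L) ∧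
      ∃ k : ℕ, Y ^ p ^ k = 1}) :
    ∃ h : SU n F q, (∀ u ∈ (U : Subgroup (SU n F q)), h * u * h⁻¹ ∈ (U : Subgroup (SU n F q))) ∧
      h.1.1 *ᵥ B.e = a • B.e ∧ h ∈ Subgroup.closure {Y : SU n F q | (∀ r ∈ RL L, Y * r * Y⁻¹ ∈ RL L) ∧
      ∃ k : ℕ, Y ^ p ^ k = 1} := by
  set K := Subgroup.closure {Y : SU n F q | (∀ r ∈ RL L, Y * r * Y⁻¹ ∈ RL L) ∧
    ∃ k : ℕ, Y ^ p ^ k = 1} with hK
  set N := K ⊓ PS B.e
  have hUN : (U : Subgroup (SU n F q)) ≤ N := fun u hu =>
    ⟨Subgroup.subset_closure ⟨fun r hr => conj_mem_RL (hstab u hu) hr, by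
      obtain ⟨k, hk⟩ := U.isPGroup' ⟨u, hu⟩; exact ⟨k, congrArg Subtype.val hk⟩⟩, hUe hu⟩
  have htU : ((t • U : Sylow p (SU n F q)) : Subgroup (SU n F q)) ≤ N := by
    intro x hx
    rw [Sylow.coe_subgroup_smul, Subgroup.mem_pointwise_smul_iff_inv_smul_mem, MulAut.smul_def,
      MulAut.conj_inv_apply] at hx
    have h1 := hUN hx
    rw [show x = t * (t⁻¹ * x * t) * t⁻¹ by group]
    refine ⟨K.mul_mem (K.mul_mem ht h1.1) (K.inv_mem ht), ?_⟩
    show (t * (t⁻¹ * x * t) * t⁻¹).1.1 *ᵥ B.e = B.e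
    have hti : t⁻¹.1.1 *ᵥ B.e = a⁻¹ • B.e := by
      rw [eq_inv_smul_iff₀ ha, ← Matrix.mulVec_smul, ← hte, SU_inv_mulVec]
    rw [SU_mul_mulVec, SU_mul_mulVec, hti, Matrix.mulVec_smul,
      show (t⁻¹ * x * t).1.1 *ᵥ B.e = B.e from h1.2, Matrix.mulVec_smul, hte, inv_smul_smul₀ ha]
  obtain ⟨k, hk⟩ := MulAction.exists_smul_eq N (U.subtype hUN) ((t • U : Sylow p _).subtype htU)
  rw [Sylow.smul_subtype] at hk
  have hk' := Sylow.subtype_injective hk
  have hfix : ((k : SU n F q)⁻¹ * t) • U = U := by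
    rw [mul_smul, inv_smul_eq_iff]; exact hk'.symm
  refine ⟨(k : SU n F q)⁻¹ * t, fun u hu => ?_, ?_, K.mul_mem (K.inv_mem k.2.1) ht⟩
  · have h1 := congrArg (fun S : Sylow p (SU n F q) => (S : Subgroup (SU n F q))) hfix
    simp only [Sylow.coe_subgroup_smul] at h1
    rw [← h1, Subgroup.mem_pointwise_smul_iff_inv_smul_mem, MulAut.smul_def, MulAut.conj_inv_apply]
    simpa [mul_assoc] using hu
  · rw [SU_mul_mulVec, hte, Matrix.mulVec_smul]
    congr 1
    conv_lhs => rw [← (show (k : SU n F q).1.1 *ᵥ B.e = B.e from k.2.2), SU_inv_mulVec]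

/-- The fusion system of `PSU n` in the defining characteristic is simple. -/
theorem isSimple_psu (hF : Fintype.card F = q ^ 2) (hn : 4 ≤ n) (S : Sylow p (PSU n F q)) :
    (Cfsg.groupFusionSystem (S : Subgroup (PSU n F q))).IsSimple p := by
  haveI : Nonempty (Fin n) := ⟨⟨0, by omega⟩⟩
  obtain ⟨U⟩ : Nonempty (Sylow p (SU n F q)) := inferInstance
  obtain ⟨B, hUe⟩ := exists_frame_fixed p hF (by omega) U
  obtain ⟨v, w, hvw, hve, hvf, hwe, hwf, hstab⟩ := exists_second hF hn B hUe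
  have hp : ¬ p ∣ Nat.card (Subgroup.center (SU n F q)) := by
    have h := coprime_center p hF (n := n) (by omega) 1
    rw [pow_one] at h
    exact (Fact.out : p.Prime).coprime_iff_not_dvd.1 h.symm
  set L₁ : Submodule F (Fin n → F) := Submodule.span F {B.e} with hL₁
  set L₂ : Submodule F (Fin n → F) := Submodule.span F {B.e, v} with hL₂
  have hL₁p : L₁ ≤ perp q L₁ := Submodule.span_le.2 fun x hx => by
    rw [Set.mem_singleton_iff.1 hx]
    exact (mem_perp_span hF).2 fun y hy => by rw [Set.mem_singleton_iff.1 hy]; exact B.hyp.1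
  have hL₂p : L₂ ≤ perp q L₂ := span_pair_le_perp hF B.hyp.1 hvw.1 hve
  have hne₁ : L₁ ≠ ⊥ := fun h => ne_zero_of_hyp B.hyp
    ((Submodule.mem_bot F).1 (h ▸ Submodule.subset_span rfl))
  have hne₂ : L₂ ≠ ⊥ := fun h => ne_zero_of_hyp B.hyp
    ((Submodule.mem_bot F).1 (h ▸ Submodule.subset_span (Set.mem_insert _ _)))
  have hstab₁ : ∀ X : SU n F q, X ∈ PS B.e → ∀ x ∈ L₁, X.1.1 *ᵥ x ∈ L₁ := by
    intro X hX x hx
    obtain ⟨a, rfl⟩ := Submodule.mem_span_singleton.1 hx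
    rw [Matrix.mulVec_smul, show X.1.1 *ᵥ B.e = B.e from hX]
    exact hx
  refine Quotient.isSimple_quotient (Z := Subgroup.center (SU n F q))
    (U := (U : Subgroup (SU n F q))) le_rfl hp U.isPGroup' (sylow_ne_bot p hF (by omega) U) ?_ ?_
    (fun T hTU hT1 hT => U_le hF hn U B hUe T hTU hT hT1) S
  · rintro g hg ⟨k, hk⟩
    have hz : IsPGroup p (Subgroup.zpowers g) := fun x => ⟨k, by
      obtain ⟨j, hj⟩ := Subgroup.mem_zpowers_iff.1 x.2
      refine Subtype.ext ?_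
      rw [SubmonoidClass.coe_pow, ← hj, ← zpow_natCast, ← _root_.zpow_mul, mul_comm, _root_.zpow_mul, zpow_natCast,
        hk, _root_.one_zpow]
      rfl⟩
    have h1 := hz.to_sup_of_normal_right' U.isPGroup'
      ((Subgroup.zpowers_le).2 (Agent.Lib.FS.mem_normalizer_of_conj_mem hg))
    rw [← U.is_maximal' h1 le_sup_right]
    exact Subgroup.mem_sup_left (Subgroup.mem_zpowers g)
  · intro g hg
    -- `g` fixes the line of `e`
    have hN := Agent.Lib.FS.mem_normalizer_of_conj_mem hg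
    have hge : g.1.1 *ᵥ B.e = hermForm n F q (g.1.1 *ᵥ B.e) B.f • B.e := by
      refine eq_smul_of_fixed hF B fun X hX => ?_
      have h1 : g⁻¹ * X * g ∈ (U : Subgroup (SU n F q)) := by
        have := (Subgroup.mem_normalizer_iff.1 (inv_mem hN) X).1 (QS_le_sylow hF B hUe hX)
        rwa [inv_inv] at this
      have h2 := hUe h1
      change (g⁻¹ * X * g).1.1 *ᵥ B.e = B.e at h2
      rw [show X = g * (g⁻¹ * X * g) * g⁻¹ by group, SU_mul_mulVec, SU_inv_mulVec, SU_mul_mulVec, h2]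
    set a := hermForm n F q (g.1.1 *ᵥ B.e) B.f
    have ha : a ≠ 0 := fun h0 => ne_zero_of_hyp B.hyp (by
      rw [← SU_inv_mulVec g B.e, hge, h0, zero_smul, Matrix.mulVec_zero])
    obtain ⟨t, ht, hte⟩ := exists_scale (p := p) hF B.hyp hvw hve hvf hwe ha
    obtain ⟨h, hhU, hhe, hh⟩ := exists_cover_element hF hUe hstab ha hte ht
    rw [show g = h * (h⁻¹ * g) by group]
    refine mul_mem (Subgroup.subset_closure ⟨hhU, RL L₂,
      le_of_normalized p U (isPGroup_RL p _) fun u hu r hr => conj_mem_RL (hstab u hu) hr,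
      fun s hs => centralizer_RL hF (by omega) hL₂p hne₂ hs, hh⟩) (Subgroup.subset_closure ⟨?_, RL L₁,
      le_of_normalized p U (isPGroup_RL p _) fun u hu r hr => conj_mem_RL (hstab₁ u (hUe hu)) hr,
      fun s hs => centralizer_RL hF (by omega) hL₁p hne₁ hs, ?_⟩)
    · intro u hu
      have hhN := Agent.Lib.FS.mem_normalizer_of_conj_mem hhU
      exact (Subgroup.mem_normalizer_iff.1 (mul_mem (inv_mem hhN) hN) u).1 hu
    · have hfix : h⁻¹ * g ∈ PS B.e := by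
        show (h⁻¹ * g).1.1 *ᵥ B.e = B.e
        rw [SU_mul_mulVec, hge, ← hhe, SU_inv_mulVec]
      refine Subgroup.closure_mono ?_ (PS_le_closure p hF B hfix)
      rintro Y ⟨hY, hYp⟩
      exact ⟨fun r hr => conj_mem_RL (hstab₁ Y hY) hr, hYp⟩

end Cfsg.Agent.Lib.FusionClassical.UnitarySimple
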